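import Cfsg.Agent.Lib.Classical.SpClassBound.Main
import Cfsg.Agent.Lib.Classical.GLClassBound

/-!
The part of an isometry without fixed vectors in characteristic two: the splitting off of the
unipotent part, the decomposition into general summands, and its encoding by tuples of monic
polynomials with non-zero constant term.
-/

set_option autoImplicit false
set_option linter.style.haveILetI false
set_option linter.unusedSectionVars false

namespace CfsgLib.Classical.SpEven

open Polynomial Module UniqueFactorizationMonoid CfsgLib.Classical.SpClassBound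

variable {K : Type*} [Field K] {V : Type*} [AddCommGroup V] [Module K V] [FiniteDimensional K V]
  {g g' : V ≃ₗ[K] V} {B : LinearMap.BilinForm K V} {η : K}

/-- The summands without fixed vectors. -/
def IsGenKey (k : Key K) : Prop := ∃ p e, k = Key.gen p e

/-- The operator `g - 1`, in the form of a polynomial power. -/
noncomputable def upow (g : V ≃ₗ[K] V) : Module.End K V := act g ((X - C 1) ^ finrank K V)

/-- The unipotent part. -/
noncomputable def uPart (g : V ≃ₗ[K] V) : Submodule K V := LinearMap.ker (upow g)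

/-- The part without fixed vectors. -/
noncomputable def gPart (g : V ≃ₗ[K] V) : Submodule K V := LinearMap.range (upow g)

theorem uPart_stable (g : V ≃ₗ[K] V) : ∀ x ∈ uPart g, g x ∈ uPart g := fun x hx => by
  rw [uPart, LinearMap.mem_ker] at hx ⊢
  rw [upow, act_g, ← upow, hx, map_zero]

theorem gPart_stable (g : V ≃ₗ[K] V) : ∀ x ∈ gPart g, g x ∈ gPart g := by
  rintro _ ⟨y, rfl⟩
  exact ⟨g y, act_g _ _⟩

theorem act_zero_of_mem_uPart {x : V} (hx : x ∈ uPart g) : act g ((X - C 1) ^ finrank K V) x = 0 := hx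

theorem isCompl_parts (g : V ≃ₗ[K] V) : IsCompl (uPart g) (gPart g) := by
  have hdisj : Disjoint (uPart g) (gPart g) := by
    rw [Submodule.disjoint_def]
    rintro _ hx ⟨y, rfl⟩
    have h2 : ((act g (X - C 1)) ^ (finrank K V + finrank K V)) y = 0 := by
      rw [uPart, LinearMap.mem_ker] at hx
      rw [pow_add, Module.End.mul_apply]
      simpa [upow, act, map_pow] using hx
    have h3 := Module.End.ker_pow_eq_ker_pow_finrank_of_le (f := act g (X - C 1))
      (le_add_self : finrank K V ≤ finrank K V + finrank K V)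
    have h4 : y ∈ LinearMap.ker ((act g (X - C 1)) ^ finrank K V) := h3 ▸ h2
    simpa [upow, act, map_pow] using h4
  exact (Submodule.isCompl_iff_disjoint _ _ (by
    rw [uPart, gPart, add_comm, LinearMap.finrank_range_add_finrank_ker])).mpr hdisj

theorem gPart_fixed {x : V} (hx : x ∈ gPart g) (h : g x = x) : x = 0 := by
  refine Submodule.disjoint_def.mp (isCompl_parts g).disjoint x ?_ hx
  have h1 : act g (X - C 1) x = 0 := by
    rw [sub_eq_add_neg, ← C_neg, act_add, act_X, act_C, h, neg_one_smul, add_neg_cancel]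
  rw [uPart, LinearMap.mem_ker, upow]
  rcases Nat.eq_zero_or_pos (finrank K V) with h0 | h0
  · haveI := Module.finrank_zero_iff.mp h0
    exact Subsingleton.elim _ _
  · exact act_dvd (dvd_pow_self _ h0.ne') h1

theorem star_linear_pow (c : K) (hc : c * c = 1) (e : ℕ) : SpClassBound.star ((X - C c) ^ e) = (X - C c) ^ e := by
  have hl := isRecip_linear hc
  rw [SpClassBound.star_pow, SpClassBound.star, UnitaryTwistPoly.tw, Polynomial.map_id, RingHom.id_apply, hl.2.2, ← mul_assoc,
    ← C_mul, inv_mul_cancel₀ hl.2.1, C_1, one_mul]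

/-- The two parts are orthogonal. -/
theorem parts_orth (hI : Isom B g η) : ∀ u ∈ uPart g, ∀ r ∈ gPart g, B u r = 0 := by
  rintro u hu _ ⟨y, rfl⟩
  refine hI.symm_zero ?_
  rw [upow, hI.act_left, (act_symm_eq_zero_iff (p := (X - C (1 : K)) ^ finrank K V)
    (((isRecip_linear (one_mul (1 : K))).pow _).2.1) u).mpr
      (by rw [star_linear_pow 1 (one_mul 1)]; exact hu), map_zero]

theorem nd_uPart (hI : Isom B g η) : Nd B (uPart g) := fun x hx h => hI.nondeg x fun v => by
  obtain ⟨a, ha, b, hb, rfl⟩ := Submodule.mem_sup.mp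
    ((isCompl_parts g).sup_eq_top.ge (Submodule.mem_top (x := v)))
  rw [map_add, h a ha, parts_orth hI x hx b hb, add_zero]

theorem nd_gPart (hI : Isom B g η) : Nd B (gPart g) := fun x hx h => hI.nondeg x fun v => by
  obtain ⟨a, ha, b, hb, rfl⟩ := Submodule.mem_sup.mp
    ((isCompl_parts g).sup_eq_top.ge (Submodule.mem_top (x := v)))
  rw [map_add, h b hb, hI.symm_zero (parts_orth hI a ha x hx), add_zero]

theorem isGenKey_of_no_fixed {S : Submodule K V} {k : Key K} (hk : HasKey g B η S k) (hn1 : (-1 : K) = 1)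
    (hS : ∀ x ∈ S, g x = x → x = 0) : IsGenKey k := by
  have key : ∀ {c : K}, c * c = 1 → ∀ {e : ℕ}, 1 ≤ e → ∀ {v u : V}, act g ((X - C c) ^ e) v = 0 →
      B (act g ((X - C c) ^ (e - 1)) v) u ≠ 0 →
      LinearMap.range (orb g ((monic_X_sub_C c).pow e) v) ≤ S → False := by
    intro c hc e he v u hv ha hle
    have hc1 : c = 1 := by rcases mul_self_eq_one_iff.mp hc with h | h <;> simp [h, hn1]
    have hfix : g (act g ((X - C c) ^ (e - 1)) v) = act g ((X - C c) ^ (e - 1)) v := by
      have h0 : act g (X - C c) (act g ((X - C c) ^ (e - 1)) v) = 0 := by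
        rw [← act_mul, ← pow_succ', Nat.sub_add_cancel he, hv]
      generalize act g ((X - C c) ^ (e - 1)) v = x at h0 ⊢
      rwa [sub_eq_add_neg, ← C_neg, act_add, act_X, act_C, hc1, neg_one_smul, ← sub_eq_add_neg,
        sub_eq_zero] at h0
    have hmem : act g ((X - C c) ^ (e - 1)) v ∈ S := hle ⟨AdjoinRoot.mk _ ((X - C c) ^ (e - 1)), orb_mk _ hv _⟩
    exact ha (by rw [hS _ hmem hfix, map_zero, LinearMap.zero_apply])
  match k, hk with
  | .gen p e, _ => exact ⟨p, e, rfl⟩
  | .sgn c e s, ⟨hc, he, _, v, hv, ha, _, hS'⟩ => exact (key hc he hv ha hS'.ge).elim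
  | .pr c e, ⟨hc, he, _, v, w, hv, _, _, _, hvw, _, hS'⟩ =>
    exact (key hc he hv hvw (le_sup_left.trans hS'.ge)).elim

variable [Finite K]

/-- A subspace without fixed vectors is a sum of general summands. -/
theorem exists_gen_decomp (hI : Isom B g η) (hn1 : (-1 : K) = 1) : ∀ (d : ℕ) (W : Submodule K V),
    finrank K W ≤ d → (∀ x ∈ W, g x ∈ W) → Nd B W → (∀ x ∈ W, g x = x → x = 0) →
    ∃ l, (∀ k ∈ l, IsGenKey k) ∧ Decomp g B η W l := by
  classical
  intro d
  induction d with
  | zero =>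
    intro W hd _ _ _
    rw [Submodule.finrank_eq_zero.mp (Nat.le_zero.mp hd)]
    exact ⟨[], by simp, .nil⟩
  | succ d ih =>
    intro W hd hg hW hfix
    by_cases hne : W = ⊥
    · subst hne; exact ⟨[], by simp, .nil⟩
    obtain ⟨P, hm, hi, h0, hy⟩ := exists_irreducible_killer hg hne
    obtain ⟨e, he, v, hvW, w, hwW, hv, hw, hvw⟩ := exists_partner hI hg hW hm h0 hy
    have h1 : P.eval 1 ≠ 0 := fun h1 => by
      obtain rfl : P = X - C 1 := eq_of_monic_of_associated hm (monic_X_sub_C 1)
        ((irreducible_X_sub_C 1).associated_of_dvd hi (dvd_iff_isRoot.mpr h1)).symm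
      obtain ⟨y, hyW, hy0, hyk⟩ := hy
      rw [sub_eq_add_neg, ← C_neg, act_add, act_X, act_C, neg_one_smul, ← sub_eq_add_neg, sub_eq_zero] at hyk
      exact hy0 (hfix y hyW hyk)
    have hm1 : P.eval (-1) ≠ 0 := by rwa [hn1]
    obtain ⟨S, hSW, k, hk⟩ : ∃ S ≤ W, ∃ k : Key K, HasKey g B η S k := by
      by_cases hs : SpClassBound.star P = P
      · rw [hs] at hw
        exact exists_generic hI hg hi (isRecip_of_star hm h0 hs)
          ⟨P, hm, hi, h0, h1, hm1, by rw [hat, if_pos hs]⟩ he hvW hwW hv hw hvw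
      · exact exists_key_hyperbolic hI hg hm hi h0 hs h1 hm1 he hvW hwW hv hw hvw
    have hgen := isGenKey_of_no_fixed hk hn1 fun x hx => hfix x (hSW hx)
    obtain ⟨hgS, hnS, hdS⟩ := hasKey_facts hI hk
    let W' : Submodule K V :=
      { carrier := {x | x ∈ W ∧ ∀ s ∈ S, B s x = 0}
        zero_mem' := ⟨W.zero_mem, fun s _ => map_zero _⟩
        add_mem' := fun hx hy => ⟨W.add_mem hx.1 hy.1, fun s hs => by rw [map_add, hx.2 s hs, hy.2 s hs, add_zero]⟩
        smul_mem' := fun a x hx => ⟨W.smul_mem a hx.1, fun s hs => by rw [map_smul, hx.2 s hs, smul_zero]⟩ }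
    have hsup : S ⊔ W' = W := by
      refine le_antisymm (sup_le hSW fun x hx => hx.1) fun x hx => ?_
      obtain ⟨s, hs, hse⟩ := exists_rep hI hnS (B.flip x)
      have : x - s ∈ W' := ⟨W.sub_mem hx (hSW hs), fun t ht => by
        rw [map_sub, hse t ht]; exact sub_self _⟩
      simpa using Submodule.add_mem_sup hs this
    have hgW' : ∀ x ∈ W', g x ∈ W' := fun x hx => ⟨hg x hx.1, fun s hs => by
      rw [hI.apply_right]; exact hx.2 _ (stable_symm hgS s hs)⟩
    have hnW' : Nd B W' := fun x hx h => hW x hx.1 fun y hy => by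
      rw [← hsup] at hy
      obtain ⟨s, hs, w, hw, rfl⟩ := Submodule.mem_sup.mp hy
      rw [map_add, hI.symm_zero (hx.2 s hs), h w hw, add_zero]
    have hinf : S ⊓ W' = ⊥ := (Submodule.eq_bot_iff _).mpr fun x hx =>
      hnS x hx.1 fun s hs => hI.symm_zero (hx.2.2 s hs)
    have hdim := Submodule.finrank_sup_add_finrank_inf_eq S W'
    rw [hsup, hinf, finrank_bot, add_zero, hdS] at hdim
    have hpos : 1 ≤ k.dim := by
      obtain ⟨p, e', rfl⟩ := hgen
      exact Nat.mul_pos hk.2.1 hk.1.natDegree_pos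
    obtain ⟨l, hl, hdec⟩ := ih W' (by omega) hgW' hnW' fun x hx => hfix x hx.1
    refine ⟨k :: l, List.forall_mem_cons.mpr ⟨hgen, hl⟩, ?_⟩
    rw [← hsup]
    exact .cons hk hdec fun s hs w hw => hw.2 s hs

theorem genDecomp_iso (hI : Isom B g η) (hI' : Isom B g' η) {l : List (Key K)} (hl : ∀ k ∈ l, IsGenKey k) :
    ∀ {W W' : Submodule K V}, Decomp g B η W l → Decomp g' B η W' l → GIso g g' B W W' := by
  induction l with
  | nil =>
    intro W W' h h'
    cases h; cases h'
    exact GIso.bot
  | cons k l ih =>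
    intro W W' h h'
    cases h with
    | cons h1 h3 ho =>
      cases h' with
      | cons h1' h3' ho' =>
        refine GIso.glue hI ?_ (ih (fun x hx => hl x (List.mem_cons_of_mem _ hx)) h3 h3') ho ho'
        obtain ⟨p, e, rfl⟩ := hl k List.mem_cons_self
        obtain ⟨hp, -, hR, v, hv, hnd, hS⟩ := h1
        obtain ⟨_, _, _, v', hv', hnd', hS'⟩ := h1'
        subst hS hS'
        have := finite_adjoinRoot' hR.1
        obtain ⟨u, hu, hfix, hr⟩ := exists_fixed_multiplier hI hI' hR hv hv' hnd hnd'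
        obtain ⟨z, hz, hzu⟩ := exists_norm_eq (tau hR).toRingHom (tau_tau hR) (isUnit_sub_tau hp hR) hu hfix
        obtain ⟨h5, h6, h7⟩ := exists_norm_generator hI hR hv hz hzu
        rw [← h6]
        exact giso_single hI hI' hR h5 hv' fun r => by rw [h7, hr]

/-! ### The encoding -/

theorem even_natDegree [CharP K 2] {f : K[X]} (hf : IsRecip f) (h0 : f.coeff 0 = 1) (h1 : f.eval 1 ≠ 0) :
    Even f.natDegree := by
  by_contra hodd
  rw [Nat.not_even_iff_odd] at hodd
  refine h1 ?_
  rw [eval_eq_sum_range]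
  simp only [one_pow, mul_one]
  have hr : f.reverse = f := by rw [hf.2.2, h0, C_1, one_mul]
  refine Finset.sum_involution (fun i _ => f.natDegree - i) (fun i hi => ?_) (fun i hi _ he => ?_)
    (fun i hi => by simp only [Finset.mem_range] at hi ⊢; omega)
    (fun i hi => by simp only [Finset.mem_range] at hi; omega)
  · simp only [Finset.mem_range] at hi
    have h2 : f.coeff (f.natDegree - i) = f.coeff i := by
      conv_rhs => rw [← hr]
      rw [coeff_reverse, revAt_le (by omega)]
    rw [h2, CharTwo.add_self_eq_zero]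
  · simp only [Finset.mem_range] at hi
    rw [Nat.odd_iff] at hodd
    omega

/-- The lower half of a palindromic polynomial. -/
noncomputable def halfPoly (f : K[X]) : K[X] :=
  ∑ j ∈ Finset.range (f.natDegree / 2 + 1), C (f.coeff (f.natDegree / 2 - j)) * X ^ j

theorem coeff_halfPoly (f : K[X]) (j : ℕ) :
    (halfPoly f).coeff j = if j ≤ f.natDegree / 2 then f.coeff (f.natDegree / 2 - j) else 0 := by
  simp [halfPoly, coeff_C_mul, coeff_X_pow]

theorem halfPoly_facts [CharP K 2] {f : K[X]} (hf : IsRecip f) (h0 : f.coeff 0 = 1) (h1 : f.eval 1 ≠ 0) :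
    (halfPoly f).Monic ∧ (halfPoly f).natDegree = f.natDegree / 2 ∧ (halfPoly f).coeff 0 ≠ 0 := by
  have hdeg : (halfPoly f).natDegree = f.natDegree / 2 := by
    refine le_antisymm (natDegree_le_iff_coeff_eq_zero.mpr fun j hj => ?_) (le_natDegree_of_ne_zero ?_)
    · rw [coeff_halfPoly, if_neg (by omega)]
    · rw [coeff_halfPoly, if_pos le_rfl, Nat.sub_self, h0]
      exact one_ne_zero
  refine ⟨?_, hdeg, ?_⟩
  · rw [Monic, leadingCoeff, hdeg, coeff_halfPoly, if_pos le_rfl, Nat.sub_self, h0]
  · rw [coeff_halfPoly, if_pos (Nat.zero_le _), Nat.sub_zero]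
    intro hmid
    refine h1 ?_
    obtain ⟨d, hd⟩ := even_natDegree hf h0 h1
    have hr : f.reverse = f := by rw [hf.2.2, h0, C_1, one_mul]
    rw [eval_eq_sum_range]
    simp only [one_pow, mul_one]
    refine Finset.sum_involution (fun i _ => f.natDegree - i) (fun i hi => ?_) (fun i hi hne he => ?_)
      (fun i hi => by simp only [Finset.mem_range] at hi ⊢; omega)
      (fun i hi => by simp only [Finset.mem_range] at hi; omega)
    · simp only [Finset.mem_range] at hi
      have h2 : f.coeff (f.natDegree - i) = f.coeff i := by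
        conv_rhs => rw [← hr]
        rw [coeff_reverse, revAt_le (by omega)]
      rw [h2, CharTwo.add_self_eq_zero]
    · refine hne ?_
      rw [show i = f.natDegree / 2 by omega]
      exact hmid

theorem halfPoly_inj [CharP K 2] {f f' : K[X]} (hf : IsRecip f) (h0 : f.coeff 0 = 1) (h1 : f.eval 1 ≠ 0)
    (hf' : IsRecip f') (h0' : f'.coeff 0 = 1) (h1' : f'.eval 1 ≠ 0) (h : halfPoly f = halfPoly f') : f = f' := by
  have hd : f.natDegree / 2 = f'.natDegree / 2 := by
    rw [← (halfPoly_facts hf h0 h1).2.1, ← (halfPoly_facts hf' h0' h1').2.1, h]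
  obtain ⟨d, hd1⟩ := even_natDegree hf h0 h1
  obtain ⟨d', hd2⟩ := even_natDegree hf' h0' h1'
  obtain rfl : d = d' := by omega
  have low : ∀ i ≤ d, f.coeff i = f'.coeff i := fun i hi => by
    have e := congrArg (fun p : K[X] => p.coeff (d - i)) h
    simp only [coeff_halfPoly] at e
    rwa [if_pos (by omega), if_pos (by omega), show f.natDegree / 2 - (d - i) = i by omega,
      show f'.natDegree / 2 - (d - i) = i by omega] at e
  refine Polynomial.ext fun i => ?_
  rcases le_or_gt i d with hi | hi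
  · exact low i hi
  rcases le_or_gt i (d + d) with hi2 | hi2
  · have hr : f.reverse = f := by rw [hf.2.2, h0, C_1, one_mul]
    have hr' : f'.reverse = f' := by rw [hf'.2.2, h0', C_1, one_mul]
    conv_lhs => rw [← hr]
    conv_rhs => rw [← hr']
    rw [coeff_reverse, coeff_reverse, revAt_le (by omega), revAt_le (by omega), hd1, hd2]
    exact low _ (by omega)
  · rw [coeff_eq_zero_of_natDegree_lt (by omega), coeff_eq_zero_of_natDegree_lt (by omega)]

/-- The tuple of a list of general summands. -/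
noncomputable def genTuple (E : ℕ) (l : List (Key K)) : Fin E → K[X] := fun i => halfPoly (genProd l (i.1 + 1))

theorem natDegree_genProd {η : K} {l : List (Key K)} (hl : ∀ k ∈ l, k.Valid η) (e : ℕ) :
    (genProd l e).natDegree = (l.map fun k => (k.genPart e).natDegree).sum := by
  induction l with
  | nil => simp [genProd]
  | cons k l ih =>
    have hl' := fun x hx => hl x (List.mem_cons_of_mem _ hx)
    rw [genProd_cons, (genPart_facts (hl k List.mem_cons_self) e).1.1.natDegree_mul
      (genProd_facts hl' e).1.1, List.map_cons, List.sum_cons, ih hl']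

theorem sum_genProd {η : K} {l : List (Key K)} (hl : ∀ k ∈ l, k.Valid η) (hg : ∀ k ∈ l, IsGenKey k) (E : ℕ)
    (hE : ∀ k ∈ l, ∀ p e, k = Key.gen p e → e ≤ E) :
    ∑ i : Fin E, (i.1 + 1) * (genProd l (i.1 + 1)).natDegree = (l.map Key.dim).sum := by
  simp only [natDegree_genProd hl]
  induction l with
  | nil => simp
  | cons k l ih =>
    simp only [List.map_cons, List.sum_cons, mul_add, Finset.sum_add_distrib]
    rw [ih (fun x hx => hl x (List.mem_cons_of_mem _ hx)) (fun x hx => hg x (List.mem_cons_of_mem _ hx))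
      (fun x hx => hE x (List.mem_cons_of_mem _ hx))]
    congr 1
    obtain ⟨p, e, rfl⟩ := hg k List.mem_cons_self
    have he := (hl _ List.mem_cons_self).2
    have heE := hE _ List.mem_cons_self p e rfl
    rw [Finset.sum_eq_single (⟨e - 1, by omega⟩ : Fin E)]
    · simp [Key.genPart, Key.dim, Nat.sub_add_cancel he]
    · intro i _ hne
      have : e ≠ i.1 + 1 := fun h => hne (Fin.ext (by simp only; omega))
      simp [Key.genPart, this]
    · simp

theorem isTuple_genTuple [CharP K 2] {η : K} {l : List (Key K)} (hl : ∀ k ∈ l, k.Valid η)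
    (hg : ∀ k ∈ l, IsGenKey k) {E s : ℕ} (hsum : (l.map Key.dim).sum = 2 * s) (hE : s ≤ E) :
    GLClassBound.IsTuple E s (genTuple E l) ∧ ∀ k ∈ l, ∀ p e, k = Key.gen p e → e ≤ E := by
  have hle : ∀ k ∈ l, ∀ p e, k = Key.gen p e → e ≤ E := by
    rintro k hk p e rfl
    have h1 : e * p.natDegree ≤ 2 * s := hsum ▸ List.le_sum_of_mem (List.mem_map_of_mem (f := Key.dim) hk)
    obtain ⟨hp, -⟩ := hl _ hk
    have h2 : 2 ≤ p.natDegree := by
      obtain ⟨P, hm, hi, hP0, hP1, hPn, rfl⟩ := id hp
      obtain ⟨d, hd⟩ := even_natDegree hp.recip (show (hat P).coeff 0 = 1 by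
        have := (genPart_facts (η := η) (k := Key.gen (hat P) 1)
          ⟨⟨P, hm, hi, hP0, hP1, hPn, rfl⟩, le_rfl⟩ 1).2.1
        simpa [Key.genPart] using this) (by
        intro h
        exact (irreducible_X_sub_C (1 : K)).coprime_iff_not_dvd.mp (hp.isCoprime (one_mul 1))
          (dvd_iff_isRoot.mpr h))
      have := hp.natDegree_pos
      omega
    have h3 := Nat.mul_le_mul_left e h2
    omega
  refine ⟨⟨fun i => ?_, ?_⟩, hle⟩
  · obtain ⟨hG, hG0, hG1, -⟩ := genProd_facts hl (i.1 + 1)
    exact ⟨(halfPoly_facts hG hG0 hG1).1, (halfPoly_facts hG hG0 hG1).2.2⟩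
  · have h1 := sum_genProd hl hg E hle
    rw [hsum] at h1
    have h2 : ∀ i : Fin E, (i.1 + 1) * (genProd l (i.1 + 1)).natDegree =
        2 * ((i.1 + 1) * (genTuple E l i).natDegree) := fun i => by
      obtain ⟨hG, hG0, hG1, -⟩ := genProd_facts hl (i.1 + 1)
      obtain ⟨d, hd⟩ := even_natDegree hG hG0 hG1
      rw [genTuple, (halfPoly_facts hG hG0 hG1).2.1, hd, show (d + d) / 2 = d by omega]
      ring
    simp only [h2, ← Finset.mul_sum] at h1
    omega

theorem genTuple_inj [CharP K 2] {η : K} {l l' : List (Key K)} (hl : ∀ k ∈ l, k.Valid η)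
    (hl' : ∀ k ∈ l', k.Valid η) (hg : ∀ k ∈ l, IsGenKey k) (hg' : ∀ k ∈ l', IsGenKey k) {E : ℕ}
    (hE : ∀ k ∈ l, ∀ p e, k = Key.gen p e → e ≤ E) (hE' : ∀ k ∈ l', ∀ p e, k = Key.gen p e → e ≤ E)
    (h : genTuple E l = genTuple E l') : l.Perm l' := by
  classical
  refine List.perm_iff_count.mpr fun k => ?_
  by_cases hk : k ∈ l ∨ k ∈ l'
  swap
  · push Not at hk
    rw [List.count_eq_zero_of_not_mem hk.1, List.count_eq_zero_of_not_mem hk.2]
  obtain ⟨p, e, rfl⟩ : IsGenKey k := hk.elim (hg k) (hg' k)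
  obtain ⟨⟨P, hm, hi, hP0, -, -, rfl⟩, he⟩ : GenP p ∧ 1 ≤ e := hk.elim (hl _) (hl' _)
  have heE : e ≤ E := hk.elim (fun h => hE _ h _ _ rfl) (fun h => hE' _ h _ _ rfl)
  rw [count_genProd hl hm hi hP0, count_genProd hl' hm hi hP0]
  have h1 := congrFun h ⟨e - 1, by omega⟩
  simp only [genTuple, Nat.sub_add_cancel he] at h1
  obtain ⟨a1, a2, a3, -⟩ := genProd_facts hl e
  obtain ⟨b1, b2, b3, -⟩ := genProd_facts hl' e
  rw [halfPoly_inj a1 a2 a3 b1 b2 b3 h1]

end CfsgLib.Classical.SpEven
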