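import Cfsg.Agent.Lib.Classical.SpEven.Normalize

/-!
Replacing a negative summand when an orthogonal vector with a suitable invariant is present.
-/

set_option autoImplicit false
set_option linter.style.haveILetI false
set_option linter.unusedSectionVars false

namespace CfsgLib.Classical.SpEven

open Polynomial Module CfsgLib.Classical.SpClassBound

variable {K : Type*} [Field K] {V : Type*} [AddCommGroup V] [Module K V] [FiniteDimensional K V]
  {g : V ≃ₗ[K] V} {B : LinearMap.BilinForm K V} {c : K}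

theorem cyc_gen {S : Submodule K V} {k : ℕ} {neg : Bool} (h : HasUKey g B c S (.cyc k neg)) :
    1 ≤ k ∧ (neg = true → 2 ≤ k) ∧ ∃ v ∈ S, (nop g ^ (2 * k)) v = 0 ∧ qv g B v v (k - 1) = 1 ∧
      (2 ≤ k → qv g B v v (k - 2) = if neg = true then c else 0) := by
  obtain ⟨hval, v, hv, hq, hS⟩ := h
  refine ⟨hval.1, hval.2, v, ?_, by rw [← act_nilX]; exact hv, ?_, fun hk => ?_⟩
  · rw [hS]; exact ⟨1, orb_one _ hv⟩
  · have := hval.1
    rw [hq _ (by omega), if_pos (by omega)]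
  · rw [hq _ (by omega), if_neg (by omega)]
    exact if_congr ⟨fun h => h.2, fun h => ⟨by omega, h⟩⟩ rfl rfl

theorem pair_gen {S : Submodule K V} {e : ℕ} {neg : Bool} (h : HasUKey g B c S (.pair e neg)) :
    1 ≤ e ∧ (neg = true → Odd e ∧ 3 ≤ e) ∧ ∃ v ∈ S, ∃ w ∈ S, (nop g ^ e) v = 0 ∧ (nop g ^ e) w = 0 ∧
      B ((nop g ^ (e - 1)) v) w = 1 ∧ (∀ j, j < e → qv g B v v j = if neg = true ∧ 2 * j + 3 = e then 1 else 0) ∧
      ∀ j, j < e → qv g B w w j = if neg = true ∧ 2 * j + 3 = e then c else 0 := by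
  obtain ⟨hval, v, w, hv, hw, hqv, hqw, hvw, hS⟩ := h
  refine ⟨hval.1, hval.2, v, ?_, w, ?_, by rw [← act_nilX]; exact hv, by rw [← act_nilX]; exact hw, ?_, hqv, hqw⟩
  · rw [hS]; exact Submodule.mem_sup_left ⟨1, orb_one _ hv⟩
  · rw [hS]; exact Submodule.mem_sup_right ⟨1, orb_one _ hw⟩
  · have := hval.1
    rw [← act_nilX, hvw _ (by omega), if_pos (by omega)]

variable [CharP K 2] (hI : Isom B g (1 : K)) (halt : ∀ u, B u u = 0)
include hI halt

/-- A pair of odd length has a vector whose invariant at the sign is one. -/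
theorem pair_sign_vec {S : Submodule K V} {d : ℕ} {neg : Bool} (hd : 1 ≤ d)
    (h : HasUKey g B c S (.pair (2 * d + 1) neg)) :
    ∃ y ∈ S, (nop g ^ (2 * d + 1)) y = 0 ∧ qv g B y y (d - 1) = 1 := by
  obtain ⟨-, -, v, hvS, w, hwS, hv, hw, hP, hqv, hqw⟩ := pair_gen h
  cases neg
  · refine ⟨v + w, S.add_mem hvS hwS, by rw [map_add, hv, hw, add_zero], ?_⟩
    have hc' := cross_eq hI (j := d) (m := 0) (u := v) (w := w) hv (by omega)
    rw [pow_zero, Module.End.one_apply] at hc'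
    rw [qv_add hI, hqv _ (by omega), hqw _ (by omega), show d - 1 + 1 = d by omega, hc', hP]
    simp
  · exact ⟨v, hvS, hv, by rw [hqv _ (by omega), if_pos ⟨rfl, by omega⟩]⟩

variable {U W : Submodule K V} (hgU : ∀ x ∈ U, g x ∈ U) (hgW : ∀ x ∈ W, g x ∈ W) (hWU : W ≤ U)
include hgW

theorem qv_add_orth {z y : V} (hy : y ∈ W) (ho : ∀ u ∈ W, B z u = 0) (j : ℕ) :
    qv g B (z + y) (z + y) j = qv g B z z j + qv g B y y j := by
  rw [qv_add hI, xpow_left hI, ho _ (xpow_mem hgW _ hy), add_zero]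

theorem npow_orth {z y : V} (hy : y ∈ W) (ho : ∀ u ∈ W, B z u = 0) (m : ℕ) : B ((nop g ^ m) y) z = 0 := by
  rw [Isom.char_symm hI z]
  exact ho _ (npow_mem hgW m hy)

include hgU hWU

/-- Three cyclic summands of one size contain a pair. -/
theorem cyc_three [Finite K] {k : ℕ} (hk : 1 ≤ k) {z z₁ z₂ : V} (hzU : z ∈ U) (h1W : z₁ ∈ W) (h2W : z₂ ∈ W)
    (hz : (nop g ^ (2 * k)) z = 0) (h1 : (nop g ^ (2 * k)) z₁ = 0) (h2 : (nop g ^ (2 * k)) z₂ = 0)
    (ht : qv g B z z (k - 1) = 1) (ht1 : qv g B z₁ z₁ (k - 1) = 1) (ht2 : qv g B z₂ z₂ (k - 1) = 1)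
    (ho : ∀ u ∈ W, B z u = 0) (h12 : B ((nop g ^ (2 * k - 1)) z₁) z₂ = 0) :
    ∃ S ≤ U, HasUKey g B c S (.pair (2 * k) false) := by
  have hk1 : (nop g ^ (2 * k)) (z + z₁) = 0 := by rw [map_add, hz, h1, add_zero]
  have hk2 : (nop g ^ (2 * k)) (z + z₂) = 0 := by rw [map_add, hz, h2, add_zero]
  have hzero : ∀ {y : V}, y ∈ W → (nop g ^ (2 * k)) (z + y) = 0 → qv g B y y (k - 1) = 1 → ∀ j,
      2 * k < 2 * j + 3 → qv g B (z + y) (z + y) j = 0 := fun hy hky hty j hj => by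
    by_cases hj' : j = k - 1
    · rw [hj', qv_add_orth hI halt hgW hy ho, ht, hty]
      exact CharTwo.add_self_eq_zero _
    · exact qv_high hI halt hky (by omega)
  refine pair_pos hI halt hgU (by omega) (U.add_mem hzU (hWU h1W)) (U.add_mem hzU (hWU h2W)) hk1 hk2 ?_
    (fun j hj => ?_) (hzero h2W hk2 ht2)
  · simp only [map_add, LinearMap.add_apply]
    rw [npow_orth hI halt hgW h1W ho, h12, ← qv_top hI halt hz hk, ht, ← pair_symm hI hz (by omega),
      npow_orth hI halt hgW h2W ho, add_zero, add_zero, add_zero]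
    exact one_ne_zero
  · exact hzero h1W hk1 ht1 j (by omega)

/-- The sign of a cyclic summand can be moved to an orthogonal vector. -/
theorem cyc_flip [Finite K] {k : ℕ} (hk : 2 ≤ k) {z y : V} (hzU : z ∈ U) (hyW : y ∈ W)
    (hz : (nop g ^ (2 * k)) z = 0) (hy : (nop g ^ (2 * k)) y = 0) (ht : qv g B z z (k - 1) = 1)
    (hty : qv g B y y (k - 1) = 0) (hsy : qv g B y y (k - 2) = 1) (ho : ∀ u ∈ W, B z u = 0) :
    ∃ S ≤ U, HasUKey g B c S (.cyc k false) := by
  obtain ⟨t, hts⟩ := exists_sqrt_char_two (qv g B z z (k - 2))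
  have hyt : t • y ∈ W := W.smul_mem t hyW
  refine cyc_pos hI halt hgU (by omega) (z := z + t • y) (U.add_mem hzU (hWU hyt))
    (by rw [map_add, map_smul, hz, hy, smul_zero, add_zero]) ?_ fun j hj => ⟨0, ?_⟩
  · rw [qv_add_orth hI halt hgW hyt ho, qv_smul hI, hty, mul_zero, add_zero, ht]
  · rw [qv_add_orth hI halt hgW hyt ho, qv_smul hI, show j = k - 2 by omega, hsy, mul_one, hts,
      CharTwo.add_self_eq_zero]
    simp

/-- The sign of a pair can be moved to an orthogonal vector. -/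
theorem pair_flip [Finite K] {d : ℕ} (hd : 1 ≤ d) {v w y : V} (hvU : v ∈ U) (hwU : w ∈ U) (hyW : y ∈ W)
    (hv : (nop g ^ (2 * d + 1)) v = 0) (hw : (nop g ^ (2 * d + 1)) w = 0) (hy : (nop g ^ (2 * d + 1)) y = 0)
    (hP : B ((nop g ^ (2 * d)) v) w = 1) (hsv : qv g B v v (d - 1) = 1) (hsy : qv g B y y (d - 1) = 1)
    (hov : ∀ u ∈ W, B v u = 0) (how : ∀ u ∈ W, B w u = 0) :
    ∃ S ≤ U, HasUKey g B c S (.pair (2 * d + 1) false) := by
  have hk : (nop g ^ (2 * d + 1)) (v + y) = 0 := by rw [map_add, hv, hy, add_zero]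
  refine pair_pos hI halt hgU (by omega) (U.add_mem hvU (hWU hyW)) hwU hk hw ?_ (fun j hj => ?_)
    fun j hj => qv_high hI halt hw (by omega)
  · rw [Nat.add_sub_cancel, map_add, map_add B, LinearMap.add_apply, hP, npow_orth hI halt hgW hyW how, add_zero]
    exact one_ne_zero
  · by_cases hj' : j = d - 1
    · rw [hj', qv_add_orth hI halt hgW hyW hov, hsv, hsy]
      exact CharTwo.add_self_eq_zero _
    · exact qv_high hI halt hk (by omega)

end CfsgLib.Classical.SpEven
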