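import Cfsg.Agent.Lib.Classical.SpEven.Defs

/-!
Prepending a summand of greatest exponent to a normal collection.
-/

set_option autoImplicit false
set_option linter.style.haveILetI false
set_option linter.unusedSectionVars false

namespace CfsgLib.Classical.SpEven

/-- The exponent of a summand. -/
def UKey.size : UKey → ℕ
  | .cyc k _ => 2 * k
  | .pair e _ => e

theorem unorm_zero : UNorm 0 := by
  refine ⟨fun k => by simp [cycCount], fun d _ => ⟨by simp, by simp, by simp⟩⟩

theorem count_eq_zero_of_size {m : Multiset UKey} {E : ℕ} (hm : ∀ x ∈ m, x.size ≤ E) {a : UKey} (ha : E < a.size) :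
    m.count a = 0 :=
  Multiset.count_eq_zero.mpr fun h => absurd (hm a h) (by omega)

theorem cycCount_eq_zero {m : Multiset UKey} {k : ℕ} (h : ∀ neg, UKey.cyc k neg ∉ m) : cycCount m k = 0 := by
  simp [cycCount, Multiset.count_eq_zero.mpr (h _)]

theorem pairCount_eq_zero {m : Multiset UKey} {e : ℕ} (h : ∀ neg, UKey.pair e neg ∉ m) : pairCount m e = 0 := by
  simp [pairCount, Multiset.count_eq_zero.mpr (h _)]

theorem unorm_cons_pair {m : Multiset UKey} (hm : UNorm m) {e : ℕ} (hs : ∀ x ∈ m, x.size ≤ e) :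
    UNorm (UKey.pair e false ::ₘ m) := by
  have hcount : ∀ d, cycCount (UKey.pair e false ::ₘ m) d = cycCount m d := fun d => by
    simp [cycCount, Multiset.count_cons]
  refine ⟨fun k => by rw [hcount]; exact hm.1 k, fun d hd => ?_⟩
  obtain ⟨h1, h2, h3⟩ := hm.2 d hd
  rw [hcount]
  simp only [pairCount, Multiset.count_cons, reduceCtorEq, UKey.pair.injEq, Bool.true_eq_false, and_false, if_false,
    and_true, add_zero] at h3 ⊢
  refine ⟨h1, h2, fun h => ?_⟩
  by_cases he : 2 * d + 1 = e
  · rw [count_eq_zero_of_size hs (a := UKey.cyc (d + 1) true) (by simp only [UKey.size]; omega)] at h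
    omega
  · rw [if_neg he, add_zero]
    exact h3 h

theorem unorm_cons_cyc {m : Multiset UKey} (hm : UNorm m) {k : ℕ} (hs : ∀ x ∈ m, x.size ≤ 2 * k)
    (h : cycCount m k ≤ 1) : UNorm (UKey.cyc k false ::ₘ m) := by
  refine ⟨fun d => ?_, fun d hd => ?_⟩
  · have := hm.1 d
    simp only [cycCount, Multiset.count_cons, UKey.cyc.injEq, Bool.true_eq_false, and_false, if_false, and_true,
      add_zero] at *
    split_ifs with hdk <;> try subst hdk
    all_goals omega
  obtain ⟨h1, h2, h3⟩ := hm.2 d hd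
  simp only [pairCount, cycCount, Multiset.count_cons, reduceCtorEq, UKey.cyc.injEq, Bool.true_eq_false, and_false,
    if_false, and_true, add_zero] at h2 h3 ⊢
  refine ⟨h1, fun hA => ?_, h3⟩
  by_cases hdk : d = k
  · subst hdk
    rw [count_eq_zero_of_size hs (a := UKey.cyc (d + 1) true) (by simp only [UKey.size]; omega),
      count_eq_zero_of_size hs (a := UKey.pair (2 * d + 1) true) (by simp only [UKey.size]; omega)] at hA
    omega
  · rw [if_neg hdk, add_zero]
    exact h2 hA

theorem unorm_cons_cycNeg {m : Multiset UKey} (hm : UNorm m) {k : ℕ} (hk : 2 ≤ k) (hs : ∀ x ∈ m, x.size ≤ 2 * k)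
    (h1 : ∀ neg, UKey.cyc k neg ∉ m) (h2 : ∀ neg, UKey.cyc (k - 1) neg ∉ m)
    (h3 : ∀ neg, UKey.pair (2 * k - 1) neg ∉ m) : UNorm (UKey.cyc k true ::ₘ m) := by
  have c1 := Multiset.count_eq_zero.mpr (h1 true)
  have c1' := Multiset.count_eq_zero.mpr (h1 false)
  have c2 := cycCount_eq_zero h2
  have c3 := pairCount_eq_zero h3
  have c3' := Multiset.count_eq_zero.mpr (h3 true)
  refine ⟨fun d => ?_, fun d hd => ?_⟩
  · have := hm.1 d
    simp only [cycCount, Multiset.count_cons, UKey.cyc.injEq, Bool.false_eq_true, and_false, if_false, and_true,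
      add_zero] at *
    split_ifs with hdk <;> try subst hdk
    all_goals omega
  obtain ⟨a1, a2, a3⟩ := hm.2 d hd
  simp only [pairCount, cycCount, Multiset.count_cons, reduceCtorEq, UKey.cyc.injEq, Bool.false_eq_true, and_false,
    if_false, and_true, add_zero] at a2 a3 c2 c3 ⊢
  by_cases hdk : d + 1 = k
  · subst hdk
    rw [Nat.add_sub_cancel] at c2
    rw [show 2 * (d + 1) - 1 = 2 * d + 1 by omega] at c3 c3'
    rw [if_pos rfl, if_neg (show ¬ d = d + 1 by omega)]
    omega
  · by_cases hdk' : d = k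
    · subst hdk'
      have z1 := count_eq_zero_of_size hs (a := UKey.cyc (d + 1) true) (by simp only [UKey.size]; omega)
      have z2 := count_eq_zero_of_size hs (a := UKey.pair (2 * d + 1) true) (by simp only [UKey.size]; omega)
      simp only [if_neg hdk, z1, z2]
      omega
    · rw [if_neg hdk, if_neg hdk', add_zero, add_zero]
      exact ⟨a1, a2, a3⟩

theorem unorm_cons_pairNeg {m : Multiset UKey} (hm : UNorm m) {d₀ : ℕ} (hd₀ : 1 ≤ d₀)
    (hs : ∀ x ∈ m, x.size ≤ 2 * d₀ + 1) (h1 : ∀ neg, UKey.pair (2 * d₀ + 1) neg ∉ m)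
    (h2 : ∀ neg, UKey.cyc d₀ neg ∉ m) : UNorm (UKey.pair (2 * d₀ + 1) true ::ₘ m) := by
  have hcount : ∀ d, cycCount (UKey.pair (2 * d₀ + 1) true ::ₘ m) d = cycCount m d := fun d => by
    simp [cycCount, Multiset.count_cons]
  have c1 := Multiset.count_eq_zero.mpr (h1 true)
  have c2 := cycCount_eq_zero h2
  have z1 := count_eq_zero_of_size hs (a := UKey.cyc (d₀ + 1) true) (by simp only [UKey.size]; omega)
  refine ⟨fun k => by rw [hcount]; exact hm.1 k, fun d hd => ?_⟩
  obtain ⟨a1, a2, a3⟩ := hm.2 d hd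
  rw [hcount]
  simp only [pairCount, Multiset.count_cons, reduceCtorEq, UKey.pair.injEq, Bool.false_eq_true, and_false, if_false,
    and_true, add_zero] at a3 ⊢
  by_cases hdd : d = d₀
  · subst hdd
    rw [if_pos rfl]
    omega
  · simp only [if_neg (show ¬ 2 * d + 1 = 2 * d₀ + 1 by omega), add_zero]
    exact ⟨a1, a2, a3⟩

end CfsgLib.Classical.SpEven
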