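import Cfsg.Agent.Lib.Classical.SpEven.Facts
import Cfsg.Agent.Lib.Classical.SpEven.Flip
import Cfsg.Agent.Lib.Classical.SpEven.NormCons

/-!
Every unipotent isometry of an alternating form in characteristic two has a normal type.
-/

set_option autoImplicit false
set_option linter.style.haveILetI false
set_option linter.unusedSectionVars false

namespace CfsgLib.Classical.SpEven

open Polynomial Module CfsgLib.Classical.SpClassBound

variable {K : Type*} [Field K] {V : Type*} [AddCommGroup V] [Module K V] [FiniteDimensional K V]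
  {g : V ≃ₗ[K] V} {B : LinearMap.BilinForm K V} {c : K}

theorem UDecomp.exists_of_mem {l : List UKey} : ∀ {W : Submodule K V}, UDecomp g B c W l → ∀ x ∈ l,
    ∃ T ≤ W, HasUKey g B c T x := by
  induction l with
  | nil => intro W _ x hx; simp at hx
  | cons a l ih =>
    intro W h x hx
    cases h with
    | @cons S W' _ _ h1 h3 ho =>
      rcases List.mem_cons.mp hx with rfl | hx
      · exact ⟨S, le_sup_left, h1⟩
      · obtain ⟨T, hT, h⟩ := ih h3 x hx
        exact ⟨T, hT.trans le_sup_right, h⟩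

variable [CharP K 2] [Finite K] (hI : Isom B g (1 : K)) (halt : ∀ u, B u u = 0)
include hI halt

theorem size_le {U : Submodule K V} {e : ℕ} (hall : ∀ x ∈ U, (nop g ^ e) x = 0) {T : Submodule K V} (hT : T ≤ U)
    {x : UKey} (h : HasUKey g B c T x) : x.size ≤ e := by
  by_contra hlt
  cases x with
  | cyc k neg =>
    obtain ⟨hk, -, v, hvT, hv, ht, -⟩ := cyc_gen h
    simp only [UKey.size] at hlt
    rw [qv_top hI halt hv hk, npow_eq_zero_of_le (by omega) (hall v (hT hvT)), map_zero, LinearMap.zero_apply] at ht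
    exact zero_ne_one ht
  | pair f neg =>
    obtain ⟨hf, -, v, hvT, w, -, hv, -, hP, -, -⟩ := pair_gen h
    simp only [UKey.size] at hlt
    rw [npow_eq_zero_of_le (by omega) (hall v (hT hvT)), map_zero, LinearMap.zero_apply] at hP
    exact zero_ne_one hP

variable {U : Submodule K V} (hgU : ∀ x ∈ U, g x ∈ U)
include hgU

theorem norm_step_cyc {k : ℕ} (hall : ∀ x ∈ U, (nop g ^ (2 * k)) x = 0) {S : Submodule K V} {neg : Bool}
    (hSU : S ≤ U) (hS : HasUKey g B c S (.cyc k neg)) (hA : ¬ ∃ T ≤ U, HasUKey g B c T (.pair (2 * k) false))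
    (hB : neg = true → ¬ ∃ T ≤ U, HasUKey g B c T (.cyc k false))
    {W : Submodule K V} (hWU : W ≤ U) (hgW : ∀ x ∈ W, g x ∈ W) (ho : ∀ s ∈ S, ∀ y ∈ W, B s y = 0)
    {l : List UKey} (hl : UDecomp g B c W l) (hn : UNorm (l : Multiset UKey)) :
    UNorm (UKey.cyc k neg ::ₘ (l : Multiset UKey)) := by
  have hsize : ∀ x ∈ (l : Multiset UKey), x.size ≤ 2 * k := fun x hx => by
    obtain ⟨T, hT, h⟩ := hl.exists_of_mem x (Multiset.mem_coe.mp hx)
    exact size_le hI halt hall (hT.trans hWU) h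
  obtain ⟨hk, hk2, z, hzS, hz, ht, hsz⟩ := cyc_gen hS
  cases neg
  · refine unorm_cons_cyc hn hsize ?_
    by_contra hcnt
    -- two orthogonal summands of the same size
    obtain ⟨n₁, hm₁⟩ : ∃ n₁, UKey.cyc k n₁ ∈ l := by
      by_contra hno
      push Not at hno
      rw [cycCount_eq_zero fun n => by simpa using hno n] at hcnt
      omega
    obtain ⟨n₂, hm₂⟩ : ∃ n₂, UKey.cyc k n₂ ∈ l.erase (UKey.cyc k n₁) := by
      by_contra hno
      push Not at hno
      have h1 := Multiset.count_eq_zero.mpr (show UKey.cyc k false ∉ ((l.erase (UKey.cyc k n₁) : List UKey) : Multiset UKey) by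
        simpa using hno false)
      have h2 := Multiset.count_eq_zero.mpr (show UKey.cyc k true ∉ ((l.erase (UKey.cyc k n₁) : List UKey) : Multiset UKey) by
        simpa using hno true)
      simp only [cycCount, Multiset.coe_count] at hcnt h1 h2
      cases n₁ <;> simp [List.count_erase, UKey.cyc.injEq] at h1 h2 <;> omega
    have hp : l.Perm (UKey.cyc k n₁ :: UKey.cyc k n₂ :: (l.erase (UKey.cyc k n₁)).erase (UKey.cyc k n₂)) :=
      (List.perm_cons_erase hm₁).trans ((List.perm_cons_erase hm₂).cons _)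
    cases hl.perm hI hp with
    | @cons T₁ W₁ _ _ hT₁ hW₁ ho₁ =>
      obtain ⟨T₂, hT₂W, hT₂⟩ := hW₁.exists_of_mem _ (List.mem_cons_self ..)
      obtain ⟨-, -, z₁, hz₁T, hz₁, ht₁, -⟩ := cyc_gen hT₁
      obtain ⟨-, -, z₂, hz₂T, hz₂, ht₂, -⟩ := cyc_gen hT₂
      have hT₁W : T₁ ≤ T₁ ⊔ W₁ := le_sup_left
      exact hA (cyc_three hI halt hgU hgW hWU hk (hSU hzS) (hT₁W hz₁T) (Submodule.mem_sup_right (hT₂W hz₂T))
        hz hz₁ hz₂ ht ht₁ ht₂ (ho z hzS) (ho₁ _ (npow_mem (hasUKey_facts hI halt hT₁).1 _ hz₁T) _ (hT₂W hz₂T)))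
  · have hk2 := hk2 rfl
    refine unorm_cons_cycNeg hn hk2 hsize (fun n hm => ?_) (fun n hm => ?_) fun n hm => ?_
    · obtain ⟨T, hT, h⟩ := hl.exists_of_mem _ (Multiset.mem_coe.mp hm)
      obtain ⟨-, -, y, hyT, hy, hty, -⟩ := cyc_gen h
      refine hB rfl (cyc_flip hI halt hgU hgW hWU hk2 (hSU hzS) (y := nop g y) (nop_mem hgW (hT hyT)) hz
        (by rw [← npow_succ']; exact npow_eq_zero_of_le (Nat.le_succ _) hy) ht ?_ ?_ (ho z hzS))
      · rw [qv_nop hI]; exact qv_high hI halt hy (by omega)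
      · rw [qv_nop hI, show k - 2 + 1 = k - 1 by omega, hty]
    · obtain ⟨T, hT, h⟩ := hl.exists_of_mem _ (Multiset.mem_coe.mp hm)
      obtain ⟨-, -, y, hyT, hy, hty, -⟩ := cyc_gen h
      exact hB rfl (cyc_flip hI halt hgU hgW hWU hk2 (hSU hzS) (hT hyT) hz (npow_eq_zero_of_le (by omega) hy) ht
        (qv_high hI halt hy (by omega)) (by rw [show k - 2 = k - 1 - 1 by omega, hty]) (ho z hzS))
    · obtain ⟨T, hT, h⟩ := hl.exists_of_mem _ (Multiset.mem_coe.mp hm)
      rw [show 2 * k - 1 = 2 * (k - 1) + 1 by omega] at h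
      obtain ⟨y, hyT, hy, hsy⟩ := pair_sign_vec hI halt (by omega) h
      exact hB rfl (cyc_flip hI halt hgU hgW hWU hk2 (hSU hzS) (hT hyT) hz (npow_eq_zero_of_le (by omega) hy) ht
        (qv_high hI halt hy (by omega)) (by rw [show k - 2 = k - 1 - 1 by omega, hsy]) (ho z hzS))

theorem norm_step_pairNeg {d : ℕ} (hall : ∀ x ∈ U, (nop g ^ (2 * d + 1)) x = 0) {S : Submodule K V}
    (hSU : S ≤ U) (hS : HasUKey g B c S (.pair (2 * d + 1) true))
    (hA : ¬ ∃ T ≤ U, HasUKey g B c T (.pair (2 * d + 1) false))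
    {W : Submodule K V} (hWU : W ≤ U) (hgW : ∀ x ∈ W, g x ∈ W) (ho : ∀ s ∈ S, ∀ y ∈ W, B s y = 0)
    {l : List UKey} (hl : UDecomp g B c W l) (hn : UNorm (l : Multiset UKey)) :
    UNorm (UKey.pair (2 * d + 1) true ::ₘ (l : Multiset UKey)) := by
  have hsize : ∀ x ∈ (l : Multiset UKey), x.size ≤ 2 * d + 1 := fun x hx => by
    obtain ⟨T, hT, h⟩ := hl.exists_of_mem x (Multiset.mem_coe.mp hx)
    exact size_le hI halt hall (hT.trans hWU) h
  obtain ⟨-, hneg, v, hvS, w, hwS, hv, hw, hP, hqv, -⟩ := pair_gen hS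
  have hd : 1 ≤ d := by have := (hneg rfl).2; omega
  rw [Nat.add_sub_cancel] at hP
  have hsv : qv g B v v (d - 1) = 1 := by rw [hqv _ (by omega), if_pos ⟨rfl, by omega⟩]
  refine unorm_cons_pairNeg hn hd hsize (fun n hm => ?_) fun n hm => ?_
  · obtain ⟨T, hT, h⟩ := hl.exists_of_mem _ (Multiset.mem_coe.mp hm)
    obtain ⟨y, hyT, hy, hsy⟩ := pair_sign_vec hI halt hd h
    exact hA (pair_flip hI halt hgU hgW hWU hd (hSU hvS) (hSU hwS) (hT hyT) hv hw hy hP hsv hsy (ho v hvS) (ho w hwS))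
  · obtain ⟨T, hT, h⟩ := hl.exists_of_mem _ (Multiset.mem_coe.mp hm)
    obtain ⟨-, -, y, hyT, hy, hty, -⟩ := cyc_gen h
    exact hA (pair_flip hI halt hgU hgW hWU hd (hSU hvS) (hSU hwS) (hT hyT) hv hw (npow_eq_zero_of_le (by omega) hy)
      hP hsv hty (ho v hvS) (ho w hwS))

/-- A first summand after which every normal collection stays normal. -/
theorem exists_first (hc : ∀ t : K, t ^ 2 + t ≠ c) (hU : Nd B U)
    (hun : ∀ x ∈ U, (nop g ^ finrank K V) x = 0) (hne : U ≠ ⊥) :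
    ∃ S ≤ U, ∃ a : UKey, HasUKey g B c S a ∧ ∀ W ≤ U, (∀ x ∈ W, g x ∈ W) → (∀ s ∈ S, ∀ y ∈ W, B s y = 0) →
      ∀ l, UDecomp g B c W l → UNorm (l : Multiset UKey) → UNorm (a ::ₘ (l : Multiset UKey)) := by
  classical
  have hex : ∃ e, ∀ x ∈ U, (nop g ^ e) x = 0 := ⟨_, hun⟩
  set e := Nat.find hex with he
  have hall : ∀ x ∈ U, (nop g ^ e) x = 0 := Nat.find_spec hex
  have he1 : 1 ≤ e := by
    by_contra h
    obtain ⟨x, hx, hx0⟩ := Submodule.exists_mem_ne_zero_of_ne_bot hne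
    have := hall x hx
    rw [show e = 0 by omega, pow_zero, Module.End.one_apply] at this
    exact hx0 this
  have hmin := Nat.find_min hex (show e - 1 < e by omega)
  push Not at hmin
  obtain ⟨v, hvU, hv0⟩ := hmin
  obtain ⟨w, hwU, hvw⟩ : ∃ w ∈ U, B ((nop g ^ (e - 1)) v) w ≠ 0 := by
    by_contra hno
    push Not at hno
    exact hv0 (hU _ (npow_mem hgU _ hvU) hno)
  by_cases hA : ∃ T ≤ U, HasUKey g B c T (.pair e false)
  · obtain ⟨S, hSU, hS⟩ := hA
    refine ⟨S, hSU, _, hS, fun W hWU _ _ l hl hn => unorm_cons_pair hn fun x hx => ?_⟩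
    obtain ⟨T, hT, h⟩ := hl.exists_of_mem x (Multiset.mem_coe.mp hx)
    exact size_le hI halt hall (hT.trans hWU) h
  rcases Nat.even_or_odd' e with ⟨k, hk | hk⟩
  · rw [hk] at hall hA hvw
    obtain ⟨z, hzU, hz⟩ : ∃ z ∈ U, B ((nop g ^ (2 * k - 1)) z) z ≠ 0 := by
      by_contra hno
      push Not at hno
      have h0 : ∀ u ∈ U, ∀ j, 2 * k ≤ 2 * j + 3 → qv g B u u j = 0 := fun u hu j hj => by
        by_cases hj' : j = k - 1
        · rw [hj', qv_top hI halt (hall u hu) (by omega), hno u hu]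
        · exact qv_high hI halt (hall u hu) (by omega)
      exact hA (pair_pos hI halt hgU (by omega) hvU hwU (hall v hvU) (hall w hwU) hvw (h0 v hvU)
        fun j hj => h0 w hwU j hj.le)
    by_cases hB : ∃ T ≤ U, HasUKey g B c T (.cyc k false)
    · obtain ⟨S, hSU, hS⟩ := hB
      exact ⟨S, hSU, _, hS, fun W hWU hgW ho l hl hn =>
        norm_step_cyc hI halt hgU hall hSU hS hA (fun h => by simp at h) hWU hgW ho hl hn⟩
    obtain ⟨neg, S, hSU, hS⟩ := cyc_any hI halt hgU hc (k := k) (by omega) hzU (hall z hzU) hz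
    exact ⟨S, hSU, _, hS, fun W hWU hgW ho l hl hn =>
      norm_step_cyc hI halt hgU hall hSU hS hA (fun _ => hB) hWU hgW ho hl hn⟩
  · rw [hk] at hall hA hvw
    obtain ⟨neg, S, hSU, hS⟩ := pair_any hI halt hgU hc (i := k) hvU hwU (hall v hvU) (hall w hwU)
      (by rw [Nat.add_sub_cancel] at hvw; exact hvw)
    cases neg
    · exact absurd ⟨S, hSU, hS⟩ hA
    · exact ⟨S, hSU, _, hS, fun W hWU hgW ho l hl hn =>
        norm_step_pairNeg hI halt hgU hall hSU hS hA hWU hgW ho hl hn⟩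

omit hgU

theorem exists_uDecomp (hc : ∀ t : K, t ^ 2 + t ≠ c) : ∀ (d : ℕ) (U : Submodule K V), finrank K U ≤ d →
    (∀ x ∈ U, g x ∈ U) → Nd B U → (∀ x ∈ U, (nop g ^ finrank K V) x = 0) →
    ∃ l : List UKey, UNorm (l : Multiset UKey) ∧ UDecomp g B c U l := by
  intro d
  induction d with
  | zero =>
    intro U hd _ _ _
    rw [Submodule.finrank_eq_zero.mp (Nat.le_zero.mp hd)]
    exact ⟨[], unorm_zero, .nil⟩
  | succ d ih =>
    intro U hd hg hU hun
    by_cases hne : U = ⊥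
    · subst hne; exact ⟨[], unorm_zero, .nil⟩
    obtain ⟨S, hSU, a, ha, hstep⟩ := exists_first hI halt hg hc hU hun hne
    obtain ⟨hgS, hnS, hdS⟩ := hasUKey_facts hI halt ha
    let W : Submodule K V :=
      { carrier := {x | x ∈ U ∧ ∀ s ∈ S, B s x = 0}
        zero_mem' := ⟨U.zero_mem, fun s _ => map_zero _⟩
        add_mem' := fun hx hy => ⟨U.add_mem hx.1 hy.1, fun s hs => by rw [map_add, hx.2 s hs, hy.2 s hs, add_zero]⟩
        smul_mem' := fun t x hx => ⟨U.smul_mem t hx.1, fun s hs => by rw [map_smul, hx.2 s hs, smul_zero]⟩ }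
    have hWU : W ≤ U := fun x hx => hx.1
    have ho : ∀ s ∈ S, ∀ y ∈ W, B s y = 0 := fun s hs y hy => hy.2 s hs
    have hsup : S ⊔ W = U := by
      refine le_antisymm (sup_le hSU hWU) fun x hx => ?_
      obtain ⟨s, hs, hse⟩ := exists_rep hI hnS (B.flip x)
      have : x - s ∈ W := ⟨U.sub_mem hx (hSU hs), fun t ht => by rw [map_sub, hse t ht]; exact sub_self _⟩
      simpa using Submodule.add_mem_sup hs this
    have hgW : ∀ x ∈ W, g x ∈ W := fun x hx => ⟨hg x hx.1, fun s hs => by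
      rw [hI.apply_right]; exact hx.2 _ (stable_symm hgS s hs)⟩
    have hnW : Nd B W := fun x hx h => hU x hx.1 fun y hy => by
      rw [← hsup] at hy
      obtain ⟨s, hs, w, hw, rfl⟩ := Submodule.mem_sup.mp hy
      rw [map_add, hI.symm_zero (hx.2 s hs), h w hw, add_zero]
    have hinf : S ⊓ W = ⊥ := (Submodule.eq_bot_iff _).mpr fun x hx =>
      hnS x hx.1 fun s hs => hI.symm_zero (hx.2.2 s hs)
    have hdim := Submodule.finrank_sup_add_finrank_inf_eq S W
    rw [hsup, hinf, finrank_bot, add_zero, hdS] at hdim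
    have hpos : 1 ≤ a.dim := by
      cases a with
      | cyc k neg => have := (cyc_gen ha).1; simp only [UKey.dim]; omega
      | pair e neg => have := (pair_gen ha).1; simp only [UKey.dim]; omega
    obtain ⟨l, hl, hdec⟩ := ih W (by omega) hgW hnW fun x hx => hun x hx.1
    refine ⟨a :: l, ?_, ?_⟩
    · rw [← Multiset.cons_coe]
      exact hstep W hWU hgW ho l hdec hl
    · rw [← hsup]
      exact .cons ha hdec ho

/-- A unipotent isometry has a normal type on every non-degenerate invariant subspace. -/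
theorem exists_uHas (hc : ∀ t : K, t ^ 2 + t ≠ c) (U : Submodule K V) (hg : ∀ x ∈ U, g x ∈ U) (hU : Nd B U)
    (hun : ∀ x ∈ U, ∃ N, (nop g ^ N) x = 0) :
    ∃ m : Multiset UKey, (∀ k ∈ m, k.Valid) ∧ UNorm m ∧ (m.map UKey.dim).sum = finrank K U ∧ UHas g B c U m := by
  obtain ⟨l, hl, hdec⟩ := exists_uDecomp hI halt hc _ U le_rfl hg hU fun x hx => by
    obtain ⟨N, hN⟩ := hun x hx
    rcases le_total N (finrank K V) with h | h
    · exact npow_eq_zero_of_le h hN
    · have h3 := Module.End.ker_pow_eq_ker_pow_finrank_of_le (f := nop g) h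
      exact LinearMap.mem_ker.mp (h3 ▸ (LinearMap.mem_ker.mpr hN : x ∈ LinearMap.ker (nop g ^ N)))
  obtain ⟨hv, hd⟩ := hdec.facts hI halt
  exact ⟨(l : Multiset UKey), fun k hk => hv k (Multiset.mem_coe.mp hk), hl,
    by rw [Multiset.map_coe, Multiset.sum_coe, hd], l, rfl, hdec⟩

end CfsgLib.Classical.SpEven
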