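import Cfsg.Agent.Lib.Classical.SpEven.Defs
import Cfsg.Agent.Lib.Classical.SpEven.Generic

/-!
Bounding the classes of a symplectic group in characteristic two, given normal types for the
unipotent part.
-/

set_option autoImplicit false
set_option linter.style.haveILetI false
set_option linter.unusedSectionVars false

namespace CfsgLib.Classical.SpEven

open Polynomial Module Matrix CfsgLib.Classical.SpClassBound

variable {K : Type*} [Field K] {n : ℕ}

theorem neg_one_eq [CharP K 2] : (-1 : K) = 1 := CharTwo.neg_eq 1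

theorem isom_one [CharP K 2] (A : symplecticGroup (Fin n) K) : Isom (form K n) (equiv A) (1 : K) :=
  neg_one_eq (K := K) ▸ isom_equiv A

theorem form_self (v : Fin n ⊕ Fin n → K) : form K n v v = 0 := by
  simp only [form, Matrix.toBilin'_apply', Matrix.J, fromBlocks_mulVec, dotProduct, Fintype.sum_sum_type]
  simp [neg_mulVec]
  rw [neg_add_eq_zero]
  exact Finset.sum_congr rfl fun i _ => mul_comm _ _

theorem exists_not_artinSchreier [CharP K 2] [Finite K] : ∃ c : K, ∀ t : K, t ^ 2 + t ≠ c := by
  by_contra h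
  push Not at h
  have hsurj : Function.Surjective fun t : K => t ^ 2 + t := h
  have := (Finite.injective_iff_surjective.mpr hsurj) (a₁ := 0) (a₂ := 1) (by
    simp [CharTwo.add_self_eq_zero])
  exact zero_ne_one this

theorem dim_uType_even (m : Multiset UKey) : ∃ j, (m.map UKey.dim).sum = 2 * j := by
  induction m using Multiset.induction with
  | empty => exact ⟨0, by simp⟩
  | cons k m ih =>
    obtain ⟨j, hj⟩ := ih
    cases k with
    | cyc k neg => exact ⟨k + j, by simp [UKey.dim, hj]; ring⟩
    | pair e neg => exact ⟨e + j, by simp [UKey.dim, hj]; ring⟩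

/-- The classes of `Sp (2 n, q)`, `q` even, from the normal types of the unipotent parts. -/
theorem card_conjClasses_le [Fintype K] [CharP K 2] (c : K)
    (hex : ∀ A : symplecticGroup (Fin n) K, ∃ m : Multiset UKey, (∀ k ∈ m, k.Valid) ∧ UNorm m ∧
      (m.map UKey.dim).sum = finrank K (uPart (equiv A)) ∧ UHas (equiv A) (form K n) c (uPart (equiv A)) m)
    (hiso : ∀ (A A' : symplecticGroup (Fin n) K) (m : Multiset UKey),
      UHas (equiv A) (form K n) c (uPart (equiv A)) m → UHas (equiv A') (form K n) c (uPart (equiv A')) m →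
      GIso (equiv A) (equiv A') (form K n) (uPart (equiv A)) (uPart (equiv A')))
    (hfin : ∀ j, Finite (UType j))
    (hsum : ∑ j ∈ Finset.range (n + 1), (Nat.card (UType j) : ℚ) * (1 / 2) ^ j ≤ 76 / 5) :
    5 * Nat.card (ConjClasses (symplecticGroup (Fin n) K)) ≤ 76 * Fintype.card K ^ n := by
  classical
  set q := Fintype.card K with hq
  have hq2 : 2 ≤ q := Fintype.one_lt_card
  have hgen : ∀ A : symplecticGroup (Fin n) K, ∃ l, (∀ k ∈ l, IsGenKey k) ∧
      Decomp (equiv A) (form K n) 1 (gPart (equiv A)) l := fun A =>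
    exists_gen_decomp (isom_one A) neg_one_eq _ _ le_rfl (gPart_stable _) (nd_gPart (isom_one A))
      fun x hx h => gPart_fixed hx h
  choose m hmv hmn hmd hmh using fun C : ConjClasses (symplecticGroup (Fin n) K) => hex C.out
  choose l hlg hld using fun C : ConjClasses (symplecticGroup (Fin n) K) => hgen C.out
  choose j hj using fun C => dim_uType_even (m C)
  have hvalid : ∀ C, ∀ k ∈ l C, k.Valid (1 : K) := fun C => ((hld C).facts (isom_one C.out)).1
  have hdim : ∀ C, j C ≤ n ∧ ((l C).map Key.dim).sum = 2 * (n - j C) := fun C => by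
    have h1 := Submodule.finrank_add_eq_of_isCompl (isCompl_parts (equiv C.out))
    rw [Module.finrank_fintype_fun_eq_card, Fintype.card_sum, Fintype.card_fin, ← hmd C, hj C,
      ((hld C).facts (isom_one C.out)).2] at h1
    omega
  have htup : ∀ C, GLClassBound.IsTuple n (n - j C) (genTuple n (l C)) ∧
      ∀ k ∈ l C, ∀ p e, k = Key.gen p e → e ≤ n := fun C =>
    isTuple_genTuple (hvalid C) (hlg C) (hdim C).2 (Nat.sub_le _ _)
  let T : ℕ → Type _ := fun s => {h : Fin n → K[X] // GLClassBound.IsTuple n s h}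
  have hTfin : ∀ s, Finite (T s) := fun s => (GLClassBound.tuple_finite_and_bound rfl n s).1
  have hTcard : ∀ s, Nat.card (T s) ≤ q ^ s := fun s => by
    obtain ⟨-, h0, h1⟩ := GLClassBound.tuple_finite_and_bound (F := K) rfl n s
    rcases Nat.eq_zero_or_pos s with rfl | hs
    · simpa using h0
    · have h2 := h1 hs
      rw [← hq, pow_add] at h2
      exact Nat.le_of_mul_le_mul_left (le_of_add_le_left h2) (pow_pos (by omega) n)
  let f : ConjClasses (symplecticGroup (Fin n) K) → Σ i : Fin (n + 1), UType i.1 × T (n - i.1) := fun C =>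
    ⟨⟨j C, Nat.lt_succ_of_le (hdim C).1⟩, ⟨m C, hmv C, hmn C, hj C⟩, ⟨genTuple n (l C), (htup C).1⟩⟩
  have hf : Function.Injective f := fun C C' h => by
    have hm : m C = m C' := congrArg (fun z : Σ i : Fin (n + 1), UType i.1 × T (n - i.1) => z.2.1.1) h
    have hl : genTuple n (l C) = genTuple n (l C') :=
      congrArg (fun z : Σ i : Fin (n + 1), UType i.1 × T (n - i.1) => z.2.2.1) h
    have hperm := genTuple_inj (hvalid C) (hvalid C') (hlg C) (hlg C') (htup C).2 (htup C').2 hl
    have h1 := hiso C.out C'.out (m C') (hm ▸ hmh C) (hmh C')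
    have h2 := genDecomp_iso (isom_one C.out) (isom_one C'.out) (hlg C')
      ((hld C).perm (isom_one C.out) hperm) (hld C')
    have h3 := GIso.glue (isom_one C.out) h1 h2 (parts_orth (isom_one C.out)) (parts_orth (isom_one C'.out))
    rw [(isCompl_parts (equiv C.out)).sup_eq_top, (isCompl_parts (equiv C'.out)).sup_eq_top] at h3
    have := ConjClasses.mk_eq_mk_iff_isConj.mpr (isConj_of_giso h3)
    rwa [show ConjClasses.mk C.out = C from Quotient.out_eq C,
      show ConjClasses.mk C'.out = C' from Quotient.out_eq C'] at this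
  have hcard := Nat.card_le_card_of_injective f hf
  rw [Nat.card_sigma] at hcard
  simp only [Nat.card_prod] at hcard
  rw [Fin.sum_univ_eq_sum_range (fun i => Nat.card (UType i) * Nat.card (T (n - i)))] at hcard
  have hterm : ∀ i ∈ Finset.range (n + 1), ((Nat.card (UType i) * Nat.card (T (n - i)) : ℕ) : ℚ) ≤
      (q : ℚ) ^ n * ((Nat.card (UType i) : ℚ) * (1 / 2) ^ i) := fun i hi => by
    have hi' : i ≤ n := Nat.le_of_lt_succ (Finset.mem_range.mp hi)
    have h1 : ((q ^ (n - i) : ℕ) : ℚ) ≤ (q : ℚ) ^ n * (1 / 2) ^ i := by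
      have h2 : (1 : ℚ) ≤ (q : ℚ) ^ i * (1 / 2) ^ i := by
        rw [← mul_pow]
        refine one_le_pow₀ ?_
        have : (2 : ℚ) ≤ q := by exact_mod_cast hq2
        linarith
      conv_rhs => rw [← Nat.sub_add_cancel hi', pow_add, mul_assoc]
      rw [Nat.cast_pow]
      exact le_mul_of_one_le_right (by positivity) h2
    calc ((Nat.card (UType i) * Nat.card (T (n - i)) : ℕ) : ℚ)
        ≤ (Nat.card (UType i) : ℚ) * ((q ^ (n - i) : ℕ) : ℚ) := by
          rw [Nat.cast_mul]
          exact mul_le_mul_of_nonneg_left (Nat.cast_le.mpr (hTcard _)) (Nat.cast_nonneg _)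
      _ ≤ (Nat.card (UType i) : ℚ) * ((q : ℚ) ^ n * (1 / 2) ^ i) := mul_le_mul_of_nonneg_left h1 (Nat.cast_nonneg _)
      _ = _ := by ring
  have h : (Nat.card (ConjClasses (symplecticGroup (Fin n) K)) : ℚ) ≤ (q : ℚ) ^ n * (76 / 5) := by
    refine (Nat.cast_le.mpr hcard).trans ?_
    rw [Nat.cast_sum]
    refine (Finset.sum_le_sum hterm).trans ?_
    rw [← Finset.mul_sum]
    exact mul_le_mul_of_nonneg_left hsum (by positivity)
  rw [← Nat.cast_le (α := ℚ)]
  push_cast
  linarith

end CfsgLib.Classical.SpEven
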