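import Cfsg.Agent.Lib.Classical.SpEven.Defs

/-!
Counting the normal types of unipotent isometries in characteristic two.

A type is read off the numbers of summands of each size and one bit per degree, so the weighted
count is bounded by a product of partition series and a two-state transfer product.
-/

set_option autoImplicit false
set_option linter.style.haveILetI false
set_option linter.unusedSectionVars false

namespace CfsgLib.Classical.SpEven

open Finset

/-- Forget the sign: `V k` and `W e`. -/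
def UKey.cls : UKey → Bool × ℕ
  | .cyc k _ => (false, k)
  | .pair e _ => (true, e)

theorem count_cls_cyc (m : Multiset UKey) (k : ℕ) : (m.map UKey.cls).count (false, k) = cycCount m k := by
  induction m using Multiset.induction with
  | empty => simp [cycCount]
  | cons a m ih =>
    rw [Multiset.map_cons, Multiset.count_cons, ih]
    simp only [cycCount, Multiset.count_cons]
    rcases a with ⟨j, _ | _⟩ | ⟨j, _ | _⟩ <;>
      by_cases h : k = j <;> simp [UKey.cls, h] <;> omega

theorem count_cls_pair (m : Multiset UKey) (e : ℕ) : (m.map UKey.cls).count (true, e) = pairCount m e := by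
  induction m using Multiset.induction with
  | empty => simp [pairCount]
  | cons a m ih =>
    rw [Multiset.map_cons, Multiset.count_cons, ih]
    simp only [pairCount, Multiset.count_cons]
    rcases a with ⟨j, _ | _⟩ | ⟨j, _ | _⟩ <;>
      by_cases h : e = j <;> simp [UKey.cls, h] <;> omega

theorem sum_count_mul_le {α : Type*} [DecidableEq α] (P : Finset α) (f : α → ℕ) (M : Multiset α) :
    ∑ x ∈ P, M.count x * f x ≤ (M.map f).sum := by
  induction M using Multiset.induction with
  | empty => simp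
  | cons a M ih =>
    simp only [Multiset.count_cons, add_mul, sum_add_distrib, ite_mul, one_mul, zero_mul, Finset.sum_ite_eq',
      Multiset.map_cons, Multiset.sum_cons]
    split_ifs <;> omega

/-- Valid normal collections of dimension at most `2 n`. -/
structure Small (n : ℕ) (m : Multiset UKey) : Prop where
  valid : ∀ k ∈ m, k.Valid
  norm : UNorm m
  le : (m.map UKey.dim).sum ≤ 2 * n

/-- The parameters: the numbers of `V k`, of `W 1`, of `W` of even size, and of `W` of odd size with the bit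
of the degree. -/
abbrev Code (n : ℕ) : Type :=
  (Fin (n + 1) → Fin 3) × Fin (n + 1) × (Fin n → Fin (n + 1)) × (Fin n → Fin (n + 1) × Bool)

theorem Small.size_le {n : ℕ} {m : Multiset UKey} (h : Small n m) :
    ((m.map UKey.cls).map Prod.snd).sum ≤ n := by
  have e : m.map UKey.dim = (m.map UKey.cls).map fun p => 2 * p.2 := by
    rw [Multiset.map_map]
    exact Multiset.map_congr rfl fun k _ => by cases k <;> rfl
  have := h.le
  rw [e, Multiset.sum_map_mul_left] at this
  omega

theorem Small.pairCount_mul_le {n : ℕ} {m : Multiset UKey} (h : Small n m) (e : ℕ) : pairCount m e * e ≤ n := by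
  have := sum_count_mul_le {(true, e)} Prod.snd (m.map UKey.cls)
  rw [sum_singleton, count_cls_pair] at this
  exact this.trans h.size_le

theorem Small.cycCount_mul_le {n : ℕ} {m : Multiset UKey} (h : Small n m) (k : ℕ) : cycCount m k * k ≤ n := by
  have := sum_count_mul_le {(false, k)} Prod.snd (m.map UKey.cls)
  rw [sum_singleton, count_cls_cyc] at this
  exact this.trans h.size_le

theorem Small.pairCount_lt {n : ℕ} {m : Multiset UKey} (h : Small n m) {e : ℕ} (he : 1 ≤ e) :
    pairCount m e < n + 1 :=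
  Nat.lt_succ_of_le ((Nat.le_mul_of_pos_right _ he).trans (h.pairCount_mul_le e))

/-- The parameters of a collection. -/
def codeOf {n : ℕ} (m : Multiset UKey) (h : Small n m) : Code n :=
  (fun i => ⟨cycCount m (i.1 + 1), Nat.lt_succ_of_le (h.norm.1 _)⟩, ⟨pairCount m 1, h.pairCount_lt le_rfl⟩,
    fun i => ⟨pairCount m (2 * i.1 + 2), h.pairCount_lt (by omega)⟩,
    fun i => (⟨pairCount m (2 * i.1 + 3), h.pairCount_lt (by omega)⟩,
      decide (0 < m.count (.cyc (i.1 + 2) true) + m.count (.pair (2 * i.1 + 3) true))))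

theorem codeOf_injective {n : ℕ} {m m' : Multiset UKey} (h : Small n m) (h' : Small n m')
    (he : codeOf m h = codeOf m' h') : m = m' := by
  simp only [codeOf, Prod.mk.injEq, Fin.mk.injEq, funext_iff] at he
  obtain ⟨ha, hb, hc, hd⟩ := he
  have hcyc : ∀ k, 1 ≤ k → cycCount m k = cycCount m' k := fun k hk => by
    by_cases hkn : k ≤ n + 1
    · simpa [show k - 1 + 1 = k by omega] using ha ⟨k - 1, by omega⟩
    · have h1 := h.cycCount_mul_le k
      have h2 := h'.cycCount_mul_le k
      rcases Nat.eq_zero_or_pos (cycCount m k) with h3 | h3 <;>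
        rcases Nat.eq_zero_or_pos (cycCount m' k) with h4 | h4 <;>
        first
        | omega
        | (have := Nat.le_mul_of_pos_left k h3; omega)
        | (have := Nat.le_mul_of_pos_left k h4; omega)
  have hpair : ∀ e, 1 ≤ e → pairCount m e = pairCount m' e := fun e he => by
    by_cases hen : e ≤ n
    · rcases Nat.even_or_odd e with ⟨r, hr⟩ | ⟨r, hr⟩
      · simpa [show 2 * (r - 1) + 2 = e by omega] using hc ⟨r - 1, by omega⟩
      · rcases Nat.eq_zero_or_pos r with rfl | hr0
        · obtain rfl : e = 1 := by omega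
          exact hb
        · simpa [show 2 * (r - 1) + 3 = e by omega] using (hd ⟨r - 1, by omega⟩).1
    · have h1 := h.pairCount_mul_le e
      have h2 := h'.pairCount_mul_le e
      rcases Nat.eq_zero_or_pos (pairCount m e) with h3 | h3 <;>
        rcases Nat.eq_zero_or_pos (pairCount m' e) with h4 | h4 <;>
        first
        | omega
        | (have := Nat.le_mul_of_pos_left e h3; omega)
        | (have := Nat.le_mul_of_pos_left e h4; omega)
  -- the signed summands of degree `d`
  have hbit : ∀ d, 1 ≤ d → m.count (.cyc (d + 1) true) = m'.count (.cyc (d + 1) true) ∧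
      m.count (.pair (2 * d + 1) true) = m'.count (.pair (2 * d + 1) true) := fun d hd1 => by
    obtain ⟨a1, -, a3⟩ := h.norm.2 d hd1
    obtain ⟨b1, -, b3⟩ := h'.norm.2 d hd1
    have hA := hcyc (d + 1) (by omega)
    have hB := hpair (2 * d + 1) (by omega)
    have hs : (0 < m.count (.cyc (d + 1) true) + m.count (.pair (2 * d + 1) true) ↔
        0 < m'.count (.cyc (d + 1) true) + m'.count (.pair (2 * d + 1) true)) := by
      by_cases hdn : d ≤ n
      · have hd' := decide_eq_decide.mp (hd ⟨d - 1, by omega⟩).2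
        simpa [show d - 1 + 2 = d + 1 by omega, show 2 * (d - 1) + 3 = 2 * d + 1 by omega] using hd'
      · have z : ∀ {m : Multiset UKey}, Small n m →
            m.count (.cyc (d + 1) true) + m.count (.pair (2 * d + 1) true) = 0 := fun {m} hm => by
          have h1 := hm.cycCount_mul_le (d + 1)
          have h2 := hm.pairCount_mul_le (2 * d + 1)
          have c1 : cycCount m (d + 1) = 0 := by
            rcases Nat.eq_zero_or_pos (cycCount m (d + 1)) with h3 | h3
            · exact h3
            · have := Nat.le_mul_of_pos_left (d + 1) h3; omega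
          have c2 : pairCount m (2 * d + 1) = 0 := by
            rcases Nat.eq_zero_or_pos (pairCount m (2 * d + 1)) with h3 | h3
            · exact h3
            · have := Nat.le_mul_of_pos_left (2 * d + 1) h3; omega
          simp only [cycCount, pairCount] at c1 c2
          omega
        rw [z h, z h']
    simp only [cycCount, pairCount] at hA hB a3 b3
    omega
  refine Multiset.ext.mpr fun k => ?_
  by_cases hk : k.Valid
  swap
  · rw [Multiset.count_eq_zero.mpr fun hm => hk (h.valid k hm),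
      Multiset.count_eq_zero.mpr fun hm => hk (h'.valid k hm)]
  have hinv : ∀ k : UKey, ¬ k.Valid → m.count k = 0 ∧ m'.count k = 0 := fun k hk =>
    ⟨Multiset.count_eq_zero.mpr fun hm => hk (h.valid k hm),
      Multiset.count_eq_zero.mpr fun hm => hk (h'.valid k hm)⟩
  rcases k with ⟨k, s⟩ | ⟨e, s⟩
  · obtain ⟨hk1, -⟩ := hk
    have ht : m.count (.cyc k true) = m'.count (.cyc k true) := by
      by_cases hk2 : 2 ≤ k
      · simpa [show k - 1 + 1 = k by omega] using (hbit (k - 1) (by omega)).1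
      · obtain ⟨e1, e2⟩ := hinv (.cyc k true) fun hv => hk2 (hv.2 rfl)
        rw [e1, e2]
    cases s
    · have := hcyc k hk1
      simp only [cycCount] at this
      omega
    · exact ht
  · obtain ⟨he1, -⟩ := hk
    have ht : m.count (.pair e true) = m'.count (.pair e true) := by
      by_cases he2 : Odd e ∧ 3 ≤ e
      · obtain ⟨⟨r, rfl⟩, he3⟩ := he2
        exact (hbit r (by omega)).2
      · obtain ⟨e1, e2⟩ := hinv (.pair e true) fun hv => he2 (hv.2 rfl)
        rw [e1, e2]
    cases s
    · have := hpair e he1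
      simp only [pairCount] at this
      omega
    · exact ht

/-- Half the dimension, read off the parameters. -/
def size {n : ℕ} (p : Code n) : ℕ :=
  ∑ i : Fin (n + 1), (i.1 + 1) * (p.1 i).1 + p.2.1.1 + ∑ i : Fin n, (2 * i.1 + 2) * (p.2.2.1 i).1 +
    ∑ i : Fin n, (2 * i.1 + 3) * (p.2.2.2 i).1.1

/-- The condition on the bit of a degree. -/
def BitOk {N : ℕ} (x y : Fin 3) (b : Fin N × Bool) : Prop := b.2 = true → x = 0 ∧ (y ≠ 0 ∨ b.1.1 ≠ 0)

instance {N : ℕ} (x y : Fin 3) (b : Fin N × Bool) : Decidable (BitOk x y b) := by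
  unfold BitOk; infer_instance

theorem codeOf_spec {n : ℕ} {m : Multiset UKey} (h : Small n m) :
    2 * size (codeOf m h) ≤ (m.map UKey.dim).sum ∧
      ∀ i : Fin n, BitOk ((codeOf m h).1 i.castSucc) ((codeOf m h).1 i.succ) ((codeOf m h).2.2.2 i) := by
  constructor
  · have e : m.map UKey.dim = (m.map UKey.cls).map fun p => 2 * p.2 := by
      rw [Multiset.map_map]
      exact Multiset.map_congr rfl fun k _ => by cases k <;> rfl
    rw [e, Multiset.sum_map_mul_left]
    refine Nat.mul_le_mul_left 2 ?_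
    set g : Fin (n + 1) ⊕ Unit ⊕ Fin n ⊕ Fin n → Bool × ℕ := fun s =>
      match s with
      | .inl i => (false, i.1 + 1)
      | .inr (.inl _) => (true, 1)
      | .inr (.inr (.inl i)) => (true, 2 * i.1 + 2)
      | .inr (.inr (.inr i)) => (true, 2 * i.1 + 3) with hg
    have hinj : Function.Injective g := by
      rintro (i | _ | i | i) (j | _ | j | j) e <;> simp [hg] at e <;>
        first
        | rfl
        | omega
        | (obtain rfl : i = j := Fin.ext (by omega); rfl)
    refine le_trans (le_of_eq ?_) (sum_count_mul_le (univ.image g) Prod.snd (m.map UKey.cls))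
    rw [sum_image hinj.injOn, Fintype.sum_sum_type, Fintype.sum_sum_type, Fintype.sum_sum_type]
    simp only [hg, count_cls_cyc, count_cls_pair, Fintype.sum_unique, size, codeOf, mul_one]
    simp only [mul_comm, add_assoc]
  · intro i hb
    simp only [codeOf, decide_eq_true_eq] at hb
    obtain ⟨-, h2, -⟩ := h.norm.2 (i.1 + 1) (by omega)
    have h2' := h2 (by simpa [show 2 * (i.1 + 1) + 1 = 2 * i.1 + 3 by omega] using hb)
    refine ⟨Fin.ext (by simpa [codeOf] using h2'), ?_⟩
    simp only [codeOf, ne_eq, Fin.ext_iff, Fin.val_succ, Fin.val_zero, cycCount, pairCount]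
    rw [show i.1 + 1 + 1 = i.1 + 2 by omega]
    omega

/-- The weight of a set of parameters. -/
def wgt {n : ℕ} (p : Code n) : ℚ :=
  (1 / 2) ^ size p * ∏ i : Fin n, if BitOk (p.1 i.castSucc) (p.1 i.succ) (p.2.2.2 i) then 1 else 0

theorem wgt_nonneg {n : ℕ} (p : Code n) : 0 ≤ wgt p := by
  refine mul_nonneg (by positivity) (prod_nonneg fun i _ => ?_)
  split_ifs <;> norm_num

/-- The factor of a degree: `u` is the weight of one `W` of that size. -/
def bitFac (u : ℚ) (x y : Fin 3) : ℚ := if x = 0 then (if y = 0 then 1 + u else 2) else 1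

/-- The weight of the numbers of `V k`, the bits summed. -/
def cycWgt (n : ℕ) (a : Fin (n + 1) → Fin 3) : ℚ :=
  (∏ i : Fin (n + 1), (1 / 2 : ℚ) ^ ((i.1 + 1) * (a i).1)) *
    ∏ i : Fin n, bitFac ((1 / 2) ^ (2 * i.1 + 3)) (a i.castSucc) (a i.succ)

mutual
/-- The transfer sum ending without `V (n + 1)`. -/
def zNo : ℕ → ℚ
  | 0 => 1
  | n + 1 => zNo n * (1 + (1 / 2) ^ (2 * n + 3)) + zYes n
/-- The transfer sum ending with some `V (n + 1)`. -/
def zYes : ℕ → ℚ
  | 0 => 3 / 4
  | n + 1 => ((1 / 2) ^ (n + 2) + ((1 / 2) ^ (n + 2)) ^ 2) * (2 * zNo n + zYes n)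
end

theorem sum_cycWgt : ∀ (n : ℕ) (P Q : ℚ),
    ∑ a : Fin (n + 1) → Fin 3, cycWgt n a * (if a (Fin.last n) = 0 then P else Q) = P * zNo n + Q * zYes n := by
  intro n
  induction n with
  | zero =>
    intro P Q
    rw [Fintype.sum_equiv (Equiv.funUnique (Fin 1) (Fin 3)) _
      (fun x : Fin 3 => (1 / 2 : ℚ) ^ x.1 * if x = 0 then P else Q)
      (fun a => by simp [cycWgt, Equiv.funUnique, Fin.last, Subsingleton.elim (default : Fin 1) 0])]
    simp [Fin.sum_univ_three, zNo, zYes]
    ring
  | succ n ih =>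
    intro P Q
    set y : ℚ := (1 / 2) ^ (n + 2) with hy
    set u : ℚ := (1 / 2) ^ (2 * n + 3) with hu
    rw [← (Fin.snocEquiv fun _ : Fin (n + 2) => Fin 3).sum_comp, Fintype.sum_prod_type, Finset.sum_comm]
    have hstep : ∀ a : Fin (n + 1) → Fin 3,
        ∑ x : Fin 3, cycWgt (n + 1) (Fin.snoc a x) * (if (Fin.snoc a x : Fin (n + 2) → Fin 3) (Fin.last (n + 1)) = 0 then P else Q) =
          cycWgt n a * (if a (Fin.last n) = 0 then (1 + u) * P + 2 * (y + y ^ 2) * Q else P + (y + y ^ 2) * Q) := by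
      intro a
      have hw : ∀ x : Fin 3, cycWgt (n + 1) (Fin.snoc a x) =
          cycWgt n a * (y ^ x.1 * bitFac u (a (Fin.last n)) x) := fun x => by
        have hs : ∀ i : Fin n, (Fin.snoc a x : Fin (n + 2) → Fin 3) i.castSucc.succ = a i.succ := fun i => by
          rw [← Fin.castSucc_succ, Fin.snoc_castSucc]
        simp only [cycWgt, Fin.prod_univ_castSucc (n := n + 1), Fin.prod_univ_castSucc (n := n), Fin.snoc_castSucc,
          Fin.snoc_last, Fin.succ_last, hs, Fin.val_castSucc, Fin.val_last, hy, hu]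
        rw [← pow_mul]
        ring
      simp only [hw, Fin.snoc_last, Fin.sum_univ_three, bitFac]
      by_cases h0 : a (Fin.last n) = 0 <;> simp [h0] <;> ring
    refine (Finset.sum_congr rfl fun a _ => ?_).trans (((Finset.sum_congr rfl fun a _ => hstep a).trans (ih _ _)).trans ?_)
    · rfl
    rw [zNo, zYes, ← hy, ← hu]
    ring

theorem geom_half {n e N : ℕ} (he : 1 ≤ e) (hN : N = n) :
    ∑ b : Fin N, ((1 / 2 : ℚ) ^ e) ^ b.1 ≤ 1 / (1 - (1 / 2) ^ e) := by
  subst hN
  have h1 : (1 / 2 : ℚ) ^ e < 1 := pow_lt_one₀ (by norm_num) (by norm_num) (by omega)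
  rw [Fin.sum_univ_eq_sum_range fun b => ((1 / 2 : ℚ) ^ e) ^ b, le_div_iff₀ (by linarith), geom_sum_mul_neg]
  have : (0 : ℚ) ≤ ((1 / 2) ^ e) ^ N := by positivity
  linarith

/-- The partition series. -/
def partSeries (n : ℕ) : ℚ :=
  (1 / (1 - 1 / 2)) * ∏ i ∈ range n, (1 / (1 - (1 / 2 : ℚ) ^ (2 * i + 2))) * (1 / (1 - (1 / 2 : ℚ) ^ (2 * i + 3)))

theorem sum_bit_le (n e : ℕ) (he : 1 ≤ e) (x y : Fin 3) :
    ∑ b : Fin (n + 1) × Bool, ((1 / 2 : ℚ) ^ e) ^ b.1.1 * (if BitOk x y b then 1 else 0) ≤
      1 / (1 - (1 / 2) ^ e) * bitFac ((1 / 2) ^ e) x y := by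
  set u : ℚ := (1 / 2) ^ e with hu
  have hu0 : 0 ≤ u := by positivity
  have hu1 : u < 1 := pow_lt_one₀ (by norm_num) (by norm_num) (by omega)
  have hG := geom_half (n := n + 1) (N := n + 1) he rfl
  have hG' := geom_half (n := n) (N := n) he rfl
  rw [← hu] at hG hG'
  rw [Fintype.sum_prod_type]
  simp only [Fintype.sum_bool, BitOk]
  by_cases hx : x = 0
  · by_cases hy : y = 0
    · simp only [hx, hy, true_and, ne_eq, not_true_eq_false, false_or, Bool.false_eq_true, IsEmpty.forall_iff,
        forall_const, if_true, bitFac, mul_one]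
      rw [sum_add_distrib, Fin.sum_univ_succ (f := fun b : Fin (n + 1) => u ^ b.1 * if ¬ b.1 = 0 then 1 else 0)]
      simp only [Fin.val_zero, not_true_eq_false, if_false, mul_zero, zero_add, Fin.val_succ, Nat.succ_ne_zero,
        not_false_eq_true, if_true, mul_one, pow_succ', ← mul_sum]
      have := mul_le_mul_of_nonneg_left hG' hu0
      have e : 1 / (1 - u) * (1 + u) = 1 / (1 - u) + u * (1 / (1 - u)) := by ring
      linarith
    · simp only [hx, hy, true_and, ne_eq, not_false_eq_true, true_or, implies_true, if_true, bitFac, mul_one,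
        if_false]
      rw [sum_add_distrib]
      linarith
  · simp only [hx, false_and, Bool.false_eq_true, IsEmpty.forall_iff, forall_const, if_true, if_false, bitFac,
      mul_zero, zero_add, mul_one]
    exact hG

theorem sum_wgt_le (n : ℕ) : ∑ p : Code n, wgt p ≤ partSeries n * (zNo n + zYes n) := by
  have hw : ∀ (a : Fin (n + 1) → Fin 3) (b : Fin (n + 1)) (c : Fin n → Fin (n + 1)) (d : Fin n → Fin (n + 1) × Bool),
      wgt (a, b, c, d) = (∏ i : Fin (n + 1), (1 / 2 : ℚ) ^ ((i.1 + 1) * (a i).1)) * (((1 / 2 : ℚ) ^ 1) ^ b.1 *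
        ((∏ i : Fin n, ((1 / 2 : ℚ) ^ (2 * i.1 + 2)) ^ (c i).1) *
          ∏ i : Fin n, ((1 / 2 : ℚ) ^ (2 * i.1 + 3)) ^ (d i).1.1 *
            (if BitOk (a i.castSucc) (a i.succ) (d i) then 1 else 0))) := fun a b c d => by
    simp only [wgt, size, pow_add ((1 : ℚ) / 2) (∑ _ : Fin _, _ + _), pow_add ((1 : ℚ) / 2) (∑ _ : Fin _, _),
      pow_add ((1 : ℚ) / 2) (_ + _ + _), ← prod_pow_eq_pow_sum, ← pow_mul, one_mul]
    rw [prod_mul_distrib (f := fun i : Fin n => ((1 / 2 : ℚ) ^ ((2 * i.1 + 3) * (d i).1.1)))]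
    ring
  have hsum : ∑ p : Code n, wgt p = ∑ a : Fin (n + 1) → Fin 3,
      (∏ i : Fin (n + 1), (1 / 2 : ℚ) ^ ((i.1 + 1) * (a i).1)) * ((∑ b : Fin (n + 1), ((1 / 2 : ℚ) ^ 1) ^ b.1) *
        ((∏ i : Fin n, ∑ x : Fin (n + 1), ((1 / 2 : ℚ) ^ (2 * i.1 + 2)) ^ x.1) *
          ∏ i : Fin n, ∑ x : Fin (n + 1) × Bool, ((1 / 2 : ℚ) ^ (2 * i.1 + 3)) ^ x.1.1 *
            (if BitOk (a i.castSucc) (a i.succ) x then (1 : ℚ) else 0))) := by
    rw [Fintype.sum_prod_type]
    refine sum_congr rfl fun a _ => ?_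
    rw [Fintype.prod_sum, Fintype.prod_sum, Finset.sum_mul_sum, Finset.sum_mul_sum, Finset.mul_sum,
      Fintype.sum_prod_type]
    refine sum_congr rfl fun b _ => ?_
    rw [Finset.mul_sum, Fintype.sum_prod_type]
    refine sum_congr rfl fun c _ => ?_
    rw [Finset.mul_sum, Finset.mul_sum]
    exact sum_congr rfl fun d _ => hw a b c d
  rw [hsum]
  have hpos : ∀ e, 1 ≤ e → (0 : ℚ) ≤ 1 / (1 - (1 / 2) ^ e) := fun e he => by
    have : (1 / 2 : ℚ) ^ e < 1 := pow_lt_one₀ (by norm_num) (by norm_num) (by omega)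
    exact div_nonneg zero_le_one (by linarith)
  calc _ ≤ ∑ a : Fin (n + 1) → Fin 3, cycWgt n a * partSeries n := by
        refine sum_le_sum fun a _ => ?_
        simp only [cycWgt, partSeries]
        rw [← Fin.prod_univ_eq_prod_range (fun i => (1 / (1 - (1 / 2 : ℚ) ^ (2 * i + 2))) * (1 / (1 - (1 / 2 : ℚ) ^ (2 * i + 3)))),
          prod_mul_distrib]
        have h1 := geom_half (n := n + 1) (N := n + 1) (e := 1) le_rfl rfl
        have h2 : ∏ i : Fin n, ∑ x : Fin (n + 1), ((1 / 2 : ℚ) ^ (2 * i.1 + 2)) ^ x.1 ≤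
            ∏ i : Fin n, 1 / (1 - (1 / 2 : ℚ) ^ (2 * i.1 + 2)) :=
          prod_le_prod (fun i _ => by positivity) fun i _ => geom_half (n := n + 1) (by omega) rfl
        have h3 : ∏ i : Fin n, ∑ x : Fin (n + 1) × Bool, ((1 / 2 : ℚ) ^ (2 * i.1 + 3)) ^ x.1.1 *
              (if BitOk (a i.castSucc) (a i.succ) x then (1 : ℚ) else 0) ≤
            ∏ i : Fin n, (1 / (1 - (1 / 2 : ℚ) ^ (2 * i.1 + 3)) * bitFac ((1 / 2) ^ (2 * i.1 + 3)) (a i.castSucc) (a i.succ)) :=
          prod_le_prod (fun i _ => sum_nonneg fun x _ => mul_nonneg (by positivity) (by split_ifs <;> norm_num))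
            fun i _ => sum_bit_le n _ (by omega) _ _
        have h23 := mul_le_mul h2 h3 (prod_nonneg fun i _ => sum_nonneg fun x _ => mul_nonneg (by positivity)
          (by split_ifs <;> norm_num)) (prod_nonneg fun i _ => hpos _ (by omega))
        have h123 := mul_le_mul h1 h23 (mul_nonneg (prod_nonneg fun i _ => by positivity)
          (prod_nonneg fun i _ => sum_nonneg fun x _ => mul_nonneg (by positivity) (by split_ifs <;> norm_num)))
          (hpos 1 le_rfl)
        refine (mul_le_mul_of_nonneg_left h123 (prod_nonneg fun i _ => by positivity)).trans (le_of_eq ?_)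
        rw [prod_mul_distrib, pow_one]
        ring
    _ = _ := by
        have h := sum_cycWgt n 1 1
        simp only [ite_self, mul_one, one_mul] at h
        rw [← sum_mul, h, mul_comm]

theorem zNo_zYes_nonneg : ∀ n, 0 ≤ zNo n ∧ 0 ≤ zYes n
  | 0 => by norm_num [zNo, zYes]
  | n + 1 => by
    obtain ⟨h1, h2⟩ := zNo_zYes_nonneg n
    rw [zNo, zYes]
    constructor <;> positivity

theorem series_twelve : partSeries 12 * (zNo 12 + zYes 12) ≤ 76 / 5 * (1 - 11 / 5 * (1 / 2) ^ 12) := by
  have z0 : zNo 0 = 1 ∧ zYes 0 = 3 / 4 := by norm_num [zNo, zYes]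
  have z1 : zNo 1 = (15 / 8 : ℚ) ∧ zYes 1 = (55 / 64 : ℚ) := by
    rw [show 1 = 0 + 1 from rfl]
    refine ⟨?_, ?_⟩
    · rw [zNo, z0.1, z0.2]; norm_num
    · rw [zYes, z0.1, z0.2]; norm_num
  have z2 : zNo 2 = (715 / 256 : ℚ) ∧ zYes 2 = (2655 / 4096 : ℚ) := by
    rw [show 2 = 1 + 1 from rfl]
    refine ⟨?_, ?_⟩
    · rw [zNo, z1.1, z1.2]; norm_num
    · rw [zYes, z1.1, z1.2]; norm_num
  have z3 : zNo 3 = (113475 / 32768 : ℚ) ∧ zYes 3 = (434095 / 1048576 : ℚ) := by
    rw [show 3 = 2 + 1 from rfl]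
    refine ⟨?_, ?_⟩
    · rw [zNo, z2.1, z2.2]; norm_num
    · rw [zYes, z2.1, z2.2]; norm_num
  have z4 : zNo 4 = (65158195 / 16777216 : ℚ) ∧ zYes 4 = (253984335 / 1073741824 : ℚ) := by
    rw [show 4 = 3 + 1 from rfl]
    refine ⟨?_, ?_⟩
    · rw [zNo, z3.1, z3.2]; norm_num
    · rw [zYes, z3.1, z3.2]; norm_num
  have z5 : zNo 5 = (141636640275 / 34359738368 : ℚ) ∧ zYes 5 = (558625164175 / 4398046511104 : ℚ) := by
    rw [show 5 = 4 + 1 from rfl]
    refine ⟨?_, ?_⟩
    · rw [zNo, z4.1, z4.2]; norm_num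
    · rw [zYes, z4.1, z4.2]; norm_num
  have z6 : zNo 6 = (1196181004280275 / 281474976710656 : ℚ) ∧ zYes 6 = (4749471054620175 / 72057594037927936 : ℚ) := by
    rw [show 6 = 5 + 1 from rfl]
    refine ⟨?_, ?_⟩
    · rw [zNo, z5.1, z5.2]; norm_num
    · rw [zYes, z5.1, z5.2]; norm_num
  have z7 : zNo 7 = (39805587624251713875 / 9223372036854775808 : ℚ) ∧ zYes 7 = (158618895328253090575 / 4722366482869645213696 : ℚ) := by
    rw [show 7 = 6 + 1 from rfl]
    refine ⟨?_, ?_⟩
    · rw [zNo, z6.1, z6.2]; norm_num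
    · rw [zYes, z6.1, z6.2]; norm_num
  have z8 : zNo 8 = (5258044223877577683925075 / 1208925819614629174706176 : ℚ) ∧ zYes 8 = (20991724339374310154568975 / 1237940039285380274899124224 : ℚ) := by
    rw [show 8 = 7 + 1 from rfl]
    refine ⟨?_, ?_⟩
    · rw [zNo, z7.1, z7.2]; norm_num
    · rw [zYes, z7.1, z7.2]; norm_num
  have z9 : zNo 9 = (2767482510954310973126532961875 / 633825300114114700748351602688 : ℚ) ∧ zYes 9 = (11059202952211669742003950639375 / 1298074214633706907132624082305024 : ℚ) := by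
    rw [show 9 = 8 + 1 from rfl]
    refine ⟨?_, ?_⟩
    · rw [zNo, z8.1, z8.2]; norm_num
    · rw [zYes, z8.1, z8.2]; norm_num
  have z10 : zNo 10 = (5815158874118430870041040026049761875 / 1329227995784915872903807060280344576 : ℚ) ∧ zYes 10 = (23249321846465371232704311790120239375 / 5444517870735015415413993718908291383296 : ℚ) := by
    rw [show 10 = 9 + 1 from rfl]
    refine ⟨?_, ?_⟩
    · rw [zNo, z9.1, z9.2]; norm_num
    · rw [zYes, z9.1, z9.2]; norm_num
  have z11 : zNo 11 = (48828708679001297342588677162427433162721875 / 11150372599265311570767859136324180752990208 : ℚ) ∧ zYes 11 = (195267243263905195387120680528662485720879375 / 91343852333181432387730302044767688728495783936 : ℚ) := by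
    rw [show 11 = 10 + 1 from rfl]
    refine ⟨?_, ?_⟩
    · rw [zNo, z10.1, z10.2]; norm_num
    · rw [zYes, z10.1, z10.2]; norm_num
  have z12 : zNo 12 = (1639219448474476494275275460712746824962041974241875 / 374144419156711147060143317175368453031918731001856 : ℚ) ∧ zYes 12 = (6556078174156493370896157539888697586782833558319375 / 6129982163463555433433388108601236734474956488734408704 : ℚ) := by
    rw [show 12 = 11 + 1 from rfl]
    refine ⟨?_, ?_⟩
    · rw [zNo, z11.1, z11.2]; norm_num
    · rw [zYes, z11.1, z11.2]; norm_num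
  rw [z12.1, z12.2]
  norm_num [partSeries, prod_range_succ]

theorem series_le : ∀ n, 12 ≤ n →
    partSeries n * (zNo n + zYes n) ≤ 76 / 5 * (1 - 11 / 5 * (1 / 2) ^ n) := by
  intro n hn
  induction n, hn using Nat.le_induction with
  | base => exact series_twelve
  | succ n hn ih =>
    set x : ℚ := (1 / 2) ^ n with hx
    have hx0 : 0 < x := by positivity
    have hx1 : x ≤ 1 / 4096 := by
      refine (pow_le_pow_of_le_one (by norm_num) (by norm_num) hn).trans ?_
      norm_num
    obtain ⟨hz1, hz2⟩ := zNo_zYes_nonneg n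
    have hP : 0 ≤ partSeries n := by
      refine mul_nonneg (by norm_num) (prod_nonneg fun i _ => ?_)
      have h1 : (1 / 2 : ℚ) ^ (2 * i + 2) < 1 := pow_lt_one₀ (by norm_num) (by norm_num) (by omega)
      have h2 : (1 / 2 : ℚ) ^ (2 * i + 3) < 1 := pow_lt_one₀ (by norm_num) (by norm_num) (by omega)
      exact mul_nonneg (div_nonneg zero_le_one (by linarith)) (div_nonneg zero_le_one (by linarith))
    have e1 : (1 / 2 : ℚ) ^ (n + 2) = x / 4 := by rw [hx, pow_add]; norm_num; ring
    have e2 : (1 / 2 : ℚ) ^ (2 * n + 3) = x ^ 2 / 8 := by rw [hx, ← pow_mul, pow_add, mul_comm n 2]; norm_num; ring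
    have e3 : (1 / 2 : ℚ) ^ (2 * n + 2) = x ^ 2 / 4 := by rw [hx, ← pow_mul, pow_add, mul_comm n 2]; norm_num; ring
    have e4 : (1 / 2 : ℚ) ^ (n + 1) = x / 2 := by rw [hx, pow_succ]; ring
    have hT : zNo (n + 1) + zYes (n + 1) ≤ (zNo n + zYes n) * (1 + x ^ 2 / 8 + 2 * (x / 4 + (x / 4) ^ 2)) := by
      rw [zNo, zYes, e1, e2]
      nlinarith [mul_nonneg hz2 hx0.le, mul_nonneg hz2 (sq_nonneg x)]
    set d : ℚ := (1 / (1 - x ^ 2 / 4)) * (1 / (1 - x ^ 2 / 8)) with hd
    have hd0 : 0 ≤ d := by
      have : x ^ 2 < 1 := by nlinarith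
      exact mul_nonneg (div_nonneg zero_le_one (by linarith)) (div_nonneg zero_le_one (by linarith))
    have hstep : (1 + x ^ 2 / 8 + 2 * (x / 4 + (x / 4) ^ 2)) * d ≤ 1 + 11 / 10 * x := by
      have : x ^ 2 < 1 := by nlinarith
      rw [hd, one_div_mul_one_div, mul_one_div, div_le_iff₀ (mul_pos (by linarith) (by linarith))]
      nlinarith [mul_le_mul_of_nonneg_left hx1 hx0.le, mul_nonneg (mul_nonneg hx0.le hx0.le) hx0.le,
        pow_le_pow_left₀ hx0.le hx1 2, mul_le_mul_of_nonneg_left hx1 (sq_nonneg x)]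
    have hPs : partSeries (n + 1) = partSeries n * d := by
      rw [partSeries, prod_range_succ, e2, e3, ← mul_assoc]
      rfl
    calc partSeries (n + 1) * (zNo (n + 1) + zYes (n + 1))
        ≤ partSeries n * d * ((zNo n + zYes n) * (1 + x ^ 2 / 8 + 2 * (x / 4 + (x / 4) ^ 2))) := by
          rw [hPs]; exact mul_le_mul_of_nonneg_left hT (mul_nonneg hP hd0)
      _ = partSeries n * (zNo n + zYes n) * ((1 + x ^ 2 / 8 + 2 * (x / 4 + (x / 4) ^ 2)) * d) := by ring
      _ ≤ 76 / 5 * (1 - 11 / 5 * x) * (1 + 11 / 10 * x) := by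
          refine mul_le_mul ih hstep (mul_nonneg (by positivity) hd0) ?_
          nlinarith
      _ ≤ _ := by rw [e4]; nlinarith [mul_nonneg hx0.le hx0.le]

theorem UType.small {j n : ℕ} (hj : j ≤ n) (m : UType j) : Small n m.1 :=
  ⟨m.2.1, m.2.2.1, m.2.2.2.trans_le (by omega)⟩

instance finite_uType (j : ℕ) : Finite (UType j) :=
  Finite.of_injective (fun m : UType j => codeOf m.1 (m.small le_rfl)) fun m m' h =>
    Subtype.ext (codeOf_injective _ _ h)

/-- The weighted number of normal types is at most `15.2`. -/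
theorem sum_utype_le (n : ℕ) :
    ∑ j ∈ Finset.range (n + 1), (Nat.card (UType j) : ℚ) * (1 / 2) ^ j ≤ 76 / 5 := by
  classical
  wlog hn : 12 ≤ n generalizing n with H
  · refine le_trans ?_ (H 12 le_rfl)
    exact sum_le_sum_of_subset_of_nonneg (range_subset_range.mpr (by omega)) fun j _ _ => by positivity
  haveI : ∀ j, Fintype (UType j) := fun j => Fintype.ofFinite _
  let f : (Σ j : Fin (n + 1), UType j.1) → Code n := fun s => codeOf s.2.1 (s.2.small (by omega))
  have hf : Function.Injective f := by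
    rintro ⟨j, m⟩ ⟨j', m'⟩ e
    have h := codeOf_injective _ _ e
    simp only at h
    obtain rfl : j = j' := Fin.ext (by
      have := m.2.2.2
      rw [h, m'.2.2.2] at this
      omega)
    rw [show m = m' from Subtype.ext h]
  calc ∑ j ∈ Finset.range (n + 1), (Nat.card (UType j) : ℚ) * (1 / 2) ^ j
      = ∑ s : (Σ j : Fin (n + 1), UType j.1), (1 / 2 : ℚ) ^ s.1.1 := by
        rw [Fintype.sum_sigma, ← Fin.sum_univ_eq_sum_range fun j => (Nat.card (UType j) : ℚ) * (1 / 2) ^ j]
        exact sum_congr rfl fun j _ => by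
          simp [Nat.card_eq_fintype_card]
    _ ≤ ∑ s, wgt (f s) := sum_le_sum fun ⟨j, m⟩ _ => by
        obtain ⟨h1, h2⟩ := codeOf_spec (m.small (n := n) (by omega))
        rw [wgt, prod_eq_one fun i _ => if_pos (h2 i), mul_one]
        refine pow_le_pow_of_le_one (by norm_num) (by norm_num) ?_
        have h3 := m.2.2.2
        simp only [f] at h1 h3 ⊢
        omega
    _ = ∑ p ∈ univ.image f, wgt p := (sum_image hf.injOn).symm
    _ ≤ ∑ p : Code n, wgt p := sum_le_sum_of_subset_of_nonneg (subset_univ _) fun p _ _ => wgt_nonneg p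
    _ ≤ _ := (sum_wgt_le n).trans ((series_le n hn).trans (by
        have : (0 : ℚ) ≤ (1 / 2) ^ n := by positivity
        linarith))

end CfsgLib.Classical.SpEven
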