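import Cfsg.Agent.Lib.Classical.SpEven.Defs

/-!
The invariants of a vector under a unipotent isometry of an alternating form in characteristic two.
-/

set_option autoImplicit false
set_option linter.style.haveILetI false
set_option linter.unusedSectionVars false

namespace CfsgLib.Classical.SpEven

open Polynomial Module CfsgLib.Classical.SpClassBound

variable {K : Type*} [Field K] {V : Type*} [AddCommGroup V] [Module K V]
  {g : V ≃ₗ[K] V} {B : LinearMap.BilinForm K V}

/-- The operator `g - 1`. -/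
noncomputable def nop (g : V ≃ₗ[K] V) : Module.End K V := (g : Module.End K V) - 1

theorem nop_apply (u : V) : nop g u = g u - u := rfl

theorem xop_apply (u : V) : xop g u = g u + g.symm u := rfl

theorem act_nilX (m : ℕ) (u : V) : act g (nilX K ^ m) u = (nop g ^ m) u := by
  rw [act, nilX, map_pow, map_sub, aeval_X, C_1, map_one]
  rfl

section commute

theorem nop_g (u : V) : nop g (g u) = g (nop g u) := by simp [nop_apply]

theorem nop_symm (u : V) : nop g (g.symm u) = g.symm (nop g u) := by simp [nop_apply]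

theorem xop_g (u : V) : xop g (g u) = g (xop g u) := by simp [xop_apply]

theorem xop_symm (u : V) : xop g (g.symm u) = g.symm (xop g u) := by simp [xop_apply]

theorem xop_nop (u : V) : xop g (nop g u) = nop g (xop g u) := by
  simp only [nop_apply, map_sub, xop_g]

theorem npow_succ (m : ℕ) (u : V) : (nop g ^ (m + 1)) u = nop g ((nop g ^ m) u) := by
  rw [pow_succ', Module.End.mul_apply]

theorem npow_succ' (m : ℕ) (u : V) : (nop g ^ (m + 1)) u = (nop g ^ m) (nop g u) := by
  rw [pow_succ, Module.End.mul_apply]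

theorem npow_add (a b : ℕ) (u : V) : (nop g ^ (a + b)) u = (nop g ^ a) ((nop g ^ b) u) := by
  rw [pow_add, Module.End.mul_apply]

theorem xpow_succ (m : ℕ) (u : V) : (xop g ^ (m + 1)) u = xop g ((xop g ^ m) u) := by
  rw [pow_succ', Module.End.mul_apply]

theorem xpow_succ' (m : ℕ) (u : V) : (xop g ^ (m + 1)) u = (xop g ^ m) (xop g u) := by
  rw [pow_succ, Module.End.mul_apply]

theorem xpow_add (a b : ℕ) (u : V) : (xop g ^ (a + b)) u = (xop g ^ a) ((xop g ^ b) u) := by
  rw [pow_add, Module.End.mul_apply]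

theorem npow_g : ∀ (m : ℕ) (u : V), (nop g ^ m) (g u) = g ((nop g ^ m) u)
  | 0, u => rfl
  | m + 1, u => by rw [npow_succ', npow_succ', nop_g, npow_g m]

theorem npow_symm : ∀ (m : ℕ) (u : V), (nop g ^ m) (g.symm u) = g.symm ((nop g ^ m) u)
  | 0, u => rfl
  | m + 1, u => by rw [npow_succ', npow_succ', nop_symm, npow_symm m]

theorem xpow_g : ∀ (m : ℕ) (u : V), (xop g ^ m) (g u) = g ((xop g ^ m) u)
  | 0, u => rfl
  | m + 1, u => by rw [xpow_succ', xpow_succ', xop_g, xpow_g m]

theorem xpow_symm : ∀ (m : ℕ) (u : V), (xop g ^ m) (g.symm u) = g.symm ((xop g ^ m) u)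
  | 0, u => rfl
  | m + 1, u => by rw [xpow_succ', xpow_succ', xop_symm, xpow_symm m]

theorem xpow_nop : ∀ (m : ℕ) (u : V), (xop g ^ m) (nop g u) = nop g ((xop g ^ m) u)
  | 0, u => rfl
  | m + 1, u => by rw [xpow_succ', xpow_succ', xop_nop, xpow_nop m]

theorem gpow_fix {u : V} (h : nop g u = 0) : g u = u := sub_eq_zero.mp h

theorem symm_fix {u : V} (h : nop g u = 0) : g.symm u = u := by
  conv_lhs => rw [← gpow_fix h]
  exact g.symm_apply_apply u

theorem npow_eq_zero_of_le {a b : ℕ} (h : a ≤ b) {u : V} (hu : (nop g ^ a) u = 0) : (nop g ^ b) u = 0 := by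
  obtain ⟨c, rfl⟩ := Nat.exists_eq_add_of_le h
  rw [add_comm, npow_add, hu, map_zero]

end commute

theorem Isom.char_symm [CharP K 2] (hI : Isom B g (1 : K)) (u w : V) : B w u = B u w := by
  rw [hI.symm, one_mul]

variable [CharP K 2]

omit [CharP K 2] in
theorem double_zero (K : Type*) [Field K] [CharP K 2] [Module K V] (u : V) : u + u = 0 := by
  rw [← one_smul K u, ← add_smul, CharTwo.add_self_eq_zero, zero_smul]

theorem nop_add (u : V) : nop g u = g u + u := by
  rw [nop_apply, sub_eq_iff_eq_add, add_assoc, double_zero K, add_zero]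

theorem nop_sq (u : V) : nop g (nop g u) = g (xop g u) := by
  rw [nop_add, nop_add, xop_apply, map_add, map_add, g.apply_symm_apply, add_assoc, ← add_assoc (g u),
    double_zero K, zero_add]

theorem xop_eq (u : V) : xop g u = g.symm (nop g (nop g u)) := by rw [nop_sq, g.symm_apply_apply]

theorem xpow_npow : ∀ (j : ℕ) (u : V), ∃ t : V → V, (∀ w, nop g (t w) = t (nop g w)) ∧
    (∀ w, nop g w = 0 → t w = w) ∧ t 0 = 0 ∧ (xop g ^ j) u = t ((nop g ^ (2 * j)) u)
  | 0, u => ⟨id, fun _ => rfl, fun _ _ => rfl, rfl, rfl⟩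
  | j + 1, u => by
    obtain ⟨t, h1, h2, h3, h4⟩ := xpow_npow j u
    refine ⟨fun w => g.symm (t w), fun w => by simp only [nop_symm, h1],
      fun w hw => by simp only [h2 w hw, symm_fix hw], by simp [h3], ?_⟩
    rw [xpow_succ, h4, xop_eq, h1, h1, show 2 * (j + 1) = 2 * j + 1 + 1 by ring, npow_succ, npow_succ]

theorem xpow_eq_zero {e j : ℕ} {u : V} (hu : (nop g ^ e) u = 0) (hj : e ≤ 2 * j) : (xop g ^ j) u = 0 := by
  obtain ⟨t, -, -, h3, h4⟩ := xpow_npow (g := g) j u
  rw [h4, npow_eq_zero_of_le hj hu, h3]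

theorem xpow_eq_npow {e j : ℕ} {u : V} (hu : (nop g ^ e) u = 0) (hj : e ≤ 2 * j + 1) :
    (xop g ^ j) u = (nop g ^ (2 * j)) u := by
  obtain ⟨t, -, h2, -, h4⟩ := xpow_npow (g := g) j u
  rw [h4, h2]
  rw [← npow_succ]
  exact npow_eq_zero_of_le hj hu

variable (hI : Isom B g (1 : K))
include hI

theorem xop_left (u w : V) : B (xop g u) w = B u (xop g w) := by
  rw [xop_apply, xop_apply, map_add, map_add, LinearMap.add_apply, hI.apply_left, add_comm,
    hI.apply_right u w]

theorem xpow_left : ∀ (j : ℕ) (u w : V), B ((xop g ^ j) u) w = B u ((xop g ^ j) w)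
  | 0, u, w => rfl
  | j + 1, u, w => by rw [xpow_succ', xpow_left j, xop_left hI, xpow_succ]

theorem nop_left (u w : V) : B (nop g u) w = B u (g.symm (nop g w)) := by
  rw [nop_add, nop_add, map_add, LinearMap.add_apply, hI.apply_left, map_add g.symm, g.symm_apply_apply,
    map_add (B u), add_comm]

theorem nop_right (u w : V) : B u (nop g w) = B (g.symm (nop g u)) w := by
  rw [Isom.char_symm hI (nop g w) u, nop_left hI, Isom.char_symm hI]

theorem npow_right : ∀ (m : ℕ) (u w : V), ∃ t : V → V, (∀ z, nop g (t z) = t (nop g z)) ∧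
    (∀ z, nop g z = 0 → t z = z) ∧ t 0 = 0 ∧ B u ((nop g ^ m) w) = B (t ((nop g ^ m) u)) w
  | 0, u, w => ⟨id, fun _ => rfl, fun _ _ => rfl, rfl, rfl⟩
  | m + 1, u, w => by
    obtain ⟨t, h1, h2, h3, h4⟩ := npow_right m u (nop g w)
    refine ⟨fun z => g.symm (t z), fun z => by simp only [nop_symm, h1],
      fun z hz => by simp only [h2 z hz, symm_fix hz], by simp [h3], ?_⟩
    rw [npow_succ', h4, nop_right hI, h1, ← npow_succ]

/-- Pairings beyond the top vanish. -/
theorem pair_zero {e : ℕ} {u w : V} {a b : ℕ} (hu : (nop g ^ e) u = 0) (hab : e ≤ a + b) :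
    B ((nop g ^ a) u) ((nop g ^ b) w) = 0 := by
  obtain ⟨t, -, -, h3, h4⟩ := npow_right hI b ((nop g ^ a) u) w
  rw [h4, ← npow_add, npow_eq_zero_of_le (by omega) hu, h3, map_zero, LinearMap.zero_apply]

/-- Pairings at the top only depend on the total exponent. -/
theorem pair_top {e : ℕ} {u w : V} {a b : ℕ} (hu : (nop g ^ e) u = 0) (hab : a + b + 1 = e) :
    B ((nop g ^ a) u) ((nop g ^ b) w) = B ((nop g ^ (e - 1)) u) w := by
  obtain ⟨t, -, h2, -, h4⟩ := npow_right hI b ((nop g ^ a) u) w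
  rw [h4, ← npow_add, show b + a = e - 1 by omega, h2]
  rw [← npow_succ, show e - 1 + 1 = e by omega]
  exact hu

theorem pair_symm {e : ℕ} {u w : V} (hu : (nop g ^ e) u = 0) (he : 1 ≤ e) :
    B ((nop g ^ (e - 1)) w) u = B ((nop g ^ (e - 1)) u) w := by
  rw [Isom.char_symm hI u]
  exact pair_top hI (a := 0) (b := e - 1) hu (by omega)

/-- The mixed term. -/
theorem cross_eq {e : ℕ} {u w : V} {j m : ℕ} (hu : (nop g ^ e) u = 0) (h : 2 * j + m + 1 = e) :
    B ((xop g ^ j) u) ((nop g ^ m) w) = B ((nop g ^ (e - 1)) u) w := by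
  obtain ⟨t, h1, h2, -, h4⟩ := xpow_npow (g := g) j u
  obtain ⟨s, k1, k2, -, k4⟩ := npow_right hI m ((xop g ^ j) u) w
  have hn : ∀ a z, (nop g ^ a) (t z) = t ((nop g ^ a) z) := by
    intro a
    induction a with
    | zero => intro z; rfl
    | succ a ih => intro z; rw [npow_succ', npow_succ', h1, ih]
  rw [k4, h4, hn, ← npow_add, show m + 2 * j = e - 1 by omega]
  have hfix : nop g ((nop g ^ (e - 1)) u) = 0 := by
    rw [← npow_succ, show e - 1 + 1 = e by omega]; exact hu
  rw [h2 _ hfix, k2 _ hfix]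

theorem cross_zero {e : ℕ} {u w : V} {j m : ℕ} (hu : (nop g ^ e) u = 0) (h : e ≤ 2 * j + m) :
    B ((xop g ^ j) u) ((nop g ^ m) w) = 0 := by
  obtain ⟨t, h1, -, h3, h4⟩ := xpow_npow (g := g) j u
  obtain ⟨s, k1, -, k3, k4⟩ := npow_right hI m ((xop g ^ j) u) w
  have hn : ∀ a z, (nop g ^ a) (t z) = t ((nop g ^ a) z) := by
    intro a
    induction a with
    | zero => intro z; rfl
    | succ a ih => intro z; rw [npow_succ', npow_succ', h1, ih]
  rw [k4, h4, hn, ← npow_add, npow_eq_zero_of_le (by omega) hu, h3, k3, map_zero, LinearMap.zero_apply]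

theorem qv_add (u w : V) (j : ℕ) :
    qv g B (u + w) (u + w) j = qv g B u u j + qv g B w w j + B ((xop g ^ (j + 1)) u) w := by
  have h : B (g ((xop g ^ j) u)) w + B (g ((xop g ^ j) w)) u = B ((xop g ^ (j + 1)) u) w := by
    rw [Isom.char_symm hI u (g _), hI.apply_right, ← xpow_left hI, xpow_symm, ← LinearMap.add_apply,
      ← map_add, ← xop_apply, ← xpow_succ]
  simp only [qv, map_add, LinearMap.add_apply]
  rw [← h]
  ring

theorem qv_smul (t : K) (u : V) (j : ℕ) : qv g B (t • u) (t • u) j = t * t * qv g B u u j := by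
  simp only [qv, map_smul, LinearMap.smul_apply, smul_eq_mul]
  ring

theorem qv_nop (u : V) (j : ℕ) : qv g B (nop g u) (nop g u) j = qv g B u u (j + 1) := by
  rw [qv, qv, xpow_nop, ← nop_g, nop_right hI, nop_g, nop_g, g.symm_apply_apply, nop_sq, ← xpow_succ]

theorem qv_npow : ∀ (m : ℕ) (u : V) (j : ℕ), qv g B ((nop g ^ m) u) ((nop g ^ m) u) j = qv g B u u (j + m)
  | 0, u, j => rfl
  | m + 1, u, j => by rw [npow_succ, qv_nop hI, qv_npow m, Nat.add_right_comm, add_assoc]

theorem qv_xop (u : V) (j : ℕ) : qv g B (xop g u) (xop g u) j = qv g B u u (j + 2) := by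
  rw [qv, qv, ← xop_left hI, ← xpow_succ', xop_g, ← xpow_succ]

theorem qv_xpow : ∀ (i : ℕ) (u : V) (j : ℕ), qv g B ((xop g ^ i) u) ((xop g ^ i) u) j = qv g B u u (j + 2 * i)
  | 0, u, j => rfl
  | i + 1, u, j => by rw [xpow_succ, qv_xop hI, qv_xpow i, show j + 2 + 2 * i = j + 2 * (i + 1) by ring]

variable (halt : ∀ u, B u u = 0)
include halt

theorem xpow_self (j : ℕ) (u : V) : B ((xop g ^ j) u) u = 0 := by
  rcases Nat.even_or_odd' j with ⟨i, rfl | rfl⟩
  · rw [two_mul, xpow_add, xpow_left hI]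
    exact halt _
  · rw [show 2 * i + 1 = i + (i + 1) by ring, xpow_add, xpow_left hI, xpow_succ]
    generalize (xop g ^ i) u = w
    rw [xop_apply, map_add, LinearMap.add_apply, hI.apply_left, ← Isom.char_symm hI]
    exact CharTwo.add_self_eq_zero _

/-- The invariant vanishes from the middle on. -/
theorem qv_high {e j : ℕ} {u : V} (hu : (nop g ^ e) u = 0) (hj : e ≤ 2 * j + 1) : qv g B u u j = 0 := by
  rw [qv]
  have h := xpow_eq_npow hu hj
  have hfix : nop g ((xop g ^ j) u) = 0 := by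
    rw [h, ← npow_succ]; exact npow_eq_zero_of_le hj hu
  rw [gpow_fix hfix, xpow_self hI halt]

/-- The top of the invariant of an even length. -/
theorem qv_top {k : ℕ} {u : V} (hu : (nop g ^ (2 * k)) u = 0) (hk : 1 ≤ k) :
    qv g B u u (k - 1) = B ((nop g ^ (2 * k - 1)) u) u := by
  obtain ⟨t, h1, h2, -, h4⟩ := xpow_npow (g := g) (k - 1) u
  have hfix : nop g ((nop g ^ (2 * k - 1)) u) = 0 := by
    rw [← npow_succ, show 2 * k - 1 + 1 = 2 * k by omega]; exact hu
  have e1 : B (nop g ((xop g ^ (k - 1)) u)) u = qv g B u u (k - 1) := by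
    rw [qv, nop_add, map_add, LinearMap.add_apply, xpow_self hI halt, add_zero]
  rw [← e1, h4, h1, ← npow_succ, show 2 * (k - 1) + 1 = 2 * k - 1 by omega, h2 _ hfix]

/-- Adding an odd translate of the vector to itself. -/
theorem qv_shift (β : K) (i : ℕ) (u : V) (j : ℕ) :
    qv g B (u + β • nop g ((xop g ^ i) u)) (u + β • nop g ((xop g ^ i) u)) j =
      qv g B u u j + β * qv g B u u (j + i + 1) + β * β * qv g B u u (j + 2 * i + 1) := by
  rw [qv_add hI, qv_smul hI, qv_nop hI, qv_xpow hI, map_smul, smul_eq_mul,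
    show B ((xop g ^ (j + 1)) u) (nop g ((xop g ^ i) u)) = qv g B u u (j + i + 1) from ?_,
    show j + 1 + 2 * i = j + 2 * i + 1 by ring]
  · ring
  rw [← xpow_nop, ← xpow_left hI, ← xpow_add, nop_add, map_add, xpow_self hI halt, add_zero, hI.apply_right, qv, show j + i + 1 = i + (j + 1) by ring]
  generalize hl : i + (j + 1) = l
  have h : B (g ((xop g ^ l) u)) u + B (g.symm ((xop g ^ l) u)) u = 0 := by
    rw [← LinearMap.add_apply, ← map_add, ← xop_apply, ← xpow_succ, xpow_self hI halt]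
  exact (eq_neg_of_add_eq_zero_right h).trans (CharTwo.neg_eq _)

end CfsgLib.Classical.SpEven
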