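import Cfsg.Agent.Lib.Classical.SpClassBound.Iso

/-!
Types of unipotent isometries of alternating forms in characteristic two.

For `x = g + g⁻¹` the function `j ↦ B (g (x ^ j) v) v` is the invariant of a vector `v`; a summand
`V k` is cyclic of size `2 k`, a summand `W e` a pair of cyclic spaces of size `e`; each degree
`d ≥ 1` carries one possible sign, on `V (d + 1)` or `W (2 d + 1)`.
-/

set_option autoImplicit false
set_option linter.style.haveILetI false
set_option linter.unusedSectionVars false

namespace CfsgLib.Classical.SpEven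

open Polynomial Module CfsgLib.Classical.SpClassBound

/-- The unipotent summands. -/
inductive UKey where
  | cyc (k : ℕ) (neg : Bool)
  | pair (e : ℕ) (neg : Bool)
  deriving DecidableEq

/-- The dimension of a summand. -/
def UKey.dim : UKey → ℕ
  | .cyc k _ => 2 * k
  | .pair e _ => 2 * e

/-- The summands that occur. -/
def UKey.Valid : UKey → Prop
  | .cyc k neg => 1 ≤ k ∧ (neg = true → 2 ≤ k)
  | .pair e neg => 1 ≤ e ∧ (neg = true → Odd e ∧ 3 ≤ e)

/-- The number of summands `V k`. -/
def cycCount (m : Multiset UKey) (k : ℕ) : ℕ := m.count (.cyc k false) + m.count (.cyc k true)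

/-- The number of summands `W e`. -/
def pairCount (m : Multiset UKey) (e : ℕ) : ℕ := m.count (.pair e false) + m.count (.pair e true)

/-- Normal collections: at most two `V k`, and at most one sign in each degree, under restrictions. -/
def UNorm (m : Multiset UKey) : Prop :=
  (∀ k, cycCount m k ≤ 2) ∧ ∀ d, 1 ≤ d →
    m.count (.cyc (d + 1) true) + m.count (.pair (2 * d + 1) true) ≤ 1 ∧
      (0 < m.count (.cyc (d + 1) true) + m.count (.pair (2 * d + 1) true) → cycCount m d = 0) ∧
      (0 < m.count (.cyc (d + 1) true) → pairCount m (2 * d + 1) = 0)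

/-- The normal types of dimension `2 j`. -/
def UType (j : ℕ) : Type :=
  {m : Multiset UKey // (∀ k ∈ m, k.Valid) ∧ UNorm m ∧ (m.map UKey.dim).sum = 2 * j}

variable {K : Type*} [Field K] {V : Type*} [AddCommGroup V] [Module K V]

/-- The self-adjoint operator `g + g⁻¹`. -/
noncomputable def xop (g : V ≃ₗ[K] V) : Module.End K V := (g : Module.End K V) + (g.symm : Module.End K V)

/-- The invariant of a pair of vectors. -/
noncomputable def qv (g : V ≃ₗ[K] V) (B : LinearMap.BilinForm K V) (v w : V) (j : ℕ) : K :=
  B (g ((xop g ^ j) v)) w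

/-- `g - 1`, as a polynomial. -/
noncomputable def nilX (K : Type*) [Field K] : K[X] := X - C 1

/-- A subspace of a given type, for a non-trivial element `c` outside the image of `t ↦ t ^ 2 + t`. -/
def HasUKey (g : V ≃ₗ[K] V) (B : LinearMap.BilinForm K V) (c : K) (S : Submodule K V) : UKey → Prop
  | .cyc k neg => UKey.Valid (.cyc k neg) ∧ ∃ v : V, act g (nilX K ^ (2 * k)) v = 0 ∧
      (∀ j, j < k → qv g B v v j =
        if j + 1 = k then 1 else if j + 2 = k ∧ neg = true then c else 0) ∧
      S = LinearMap.range (orb g ((monic_X_sub_C (1 : K)).pow (2 * k)) v)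
  | .pair e neg => UKey.Valid (.pair e neg) ∧ ∃ v w : V,
      act g (nilX K ^ e) v = 0 ∧ act g (nilX K ^ e) w = 0 ∧
      (∀ j, j < e → qv g B v v j = if neg = true ∧ 2 * j + 3 = e then 1 else 0) ∧
      (∀ j, j < e → qv g B w w j = if neg = true ∧ 2 * j + 3 = e then c else 0) ∧
      (∀ i, i < e → B (act g (nilX K ^ i) v) w = if i + 1 = e then 1 else 0) ∧
      S = LinearMap.range (orb g ((monic_X_sub_C (1 : K)).pow e) v) ⊔
        LinearMap.range (orb g ((monic_X_sub_C (1 : K)).pow e) w)

/-- Orthogonal decompositions into summands of given types. -/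
inductive UDecomp (g : V ≃ₗ[K] V) (B : LinearMap.BilinForm K V) (c : K) : Submodule K V → List UKey → Prop
  | nil : UDecomp g B c ⊥ []
  | cons {S W : Submodule K V} {k : UKey} {l : List UKey} : HasUKey g B c S k → UDecomp g B c W l →
      (∀ s ∈ S, ∀ w ∈ W, B s w = 0) → UDecomp g B c (S ⊔ W) (k :: l)

/-- The subspace has the given collection of types. -/
def UHas (g : V ≃ₗ[K] V) (B : LinearMap.BilinForm K V) (c : K) (W : Submodule K V) (m : Multiset UKey) : Prop :=
  ∃ l : List UKey, (l : Multiset UKey) = m ∧ UDecomp g B c W l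

end CfsgLib.Classical.SpEven
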