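import Cfsg.Agent.Lib.Classical.SpEven.Normalize

/-!
Summands of one type of a unipotent isometry in characteristic two: non-degenerate, of the stated
dimension, and isometric to each other; decompositions of one type give isometric spaces.
-/

set_option autoImplicit false
set_option linter.style.haveILetI false
set_option linter.unusedSectionVars false

namespace CfsgLib.Classical.SpEven

open Polynomial Module CfsgLib.Classical.SpClassBound

variable {K : Type*} [Field K] {V : Type*} [AddCommGroup V] [Module K V]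
  {g g' : V ≃ₗ[K] V} {B : LinearMap.BilinForm K V} {c : K}

theorem recip_nilX (K : Type*) [Field K] (e : ℕ) : IsRecip ((X - C (1 : K)) ^ e) :=
  (isRecip_linear (one_mul 1)).pow e

theorem act_nilX' (m : ℕ) (u : V) : act g ((X - C (1 : K)) ^ m) u = (nop g ^ m) u := act_nilX m u

/-- An annihilated class is a scalar multiple of the socle. -/
theorem eq_socle {e : ℕ} (he : 1 ≤ e) (a : AdjoinRoot ((X - C (1 : K)) ^ e))
    (h : AdjoinRoot.mk _ (X - C (1 : K)) * a = 0) :
    ∃ α : K, a = AdjoinRoot.mk _ (C α * (X - C (1 : K)) ^ (e - 1)) := by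
  obtain ⟨q, rfl⟩ := AdjoinRoot.mk_surjective a
  rw [← map_mul, AdjoinRoot.mk_eq_zero] at h
  obtain ⟨t, ht⟩ := h
  have hq : q = (X - C (1 : K)) ^ (e - 1) * t := by
    refine mul_left_cancel₀ (X_sub_C_ne_zero (1 : K)) ?_
    rw [ht, ← mul_assoc, ← pow_succ', show e - 1 + 1 = e by omega]
  obtain ⟨t', ht'⟩ : (X - C (1 : K)) ∣ t - C (t.eval 1) := dvd_iff_isRoot.mpr (by simp)
  refine ⟨t.eval 1, AdjoinRoot.mk_eq_mk.mpr ⟨t', ?_⟩⟩
  calc q - C (t.eval 1) * (X - C (1 : K)) ^ (e - 1)
      = (X - C (1 : K)) ^ (e - 1) * (t - C (t.eval 1)) := by rw [hq]; ring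
    _ = (X - C (1 : K)) ^ (e - 1 + 1) * t' := by rw [ht', pow_succ, mul_assoc]
    _ = (X - C (1 : K)) ^ e * t' := by rw [show e - 1 + 1 = e by omega]

variable [CharP K 2] [FiniteDimensional K V] (hI : Isom B g (1 : K)) (halt : ∀ u, B u u = 0)
include hI halt

/-- The self-pairing at the top of a pair vanishes. -/
theorem self_top_pair {e : ℕ} {v : V} {neg : Bool} {x : K} [Finite K] (he : 1 ≤ e)
    (hv : (nop g ^ e) v = 0) (hq : ∀ j, j < e → qv g B v v j = if neg = true ∧ 2 * j + 3 = e then x else 0) :
    B ((nop g ^ (e - 1)) v) v = 0 := by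
  refine self_top hI halt (U := ⊤) (fun _ _ => Submodule.mem_top) hv he fun j hj => ?_
  rcases Nat.lt_or_ge j e with h | h
  · rw [hq j h, if_neg (fun h' => by omega)]
  · exact qv_high hI halt hv (by omega)

/-- A functional is determined by the invariants of its vector. -/
theorem psi_self_eq (hI' : Isom B g' (1 : K)) {e : ℕ} {v v' : V} (hv : (nop g ^ e) v = 0)
    (hv' : (nop g' ^ e) v' = 0) (h : ∀ j, 2 * j + 1 < e → qv g B v v j = qv g' B v' v' j)
    (r : AdjoinRoot ((X - C (1 : K)) ^ e)) :
    psi g B (recip_nilX K e).1 v v r = psi g' B (recip_nilX K e).1 v' v' r := by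
  have hall : ∀ j, qv g B v v j = qv g' B v' v' j := fun j => by
    rcases Nat.lt_or_ge (2 * j + 1) e with hj | hj
    · exact h j hj
    · rw [qv_high hI halt hv hj, qv_high hI' halt hv' hj]
  have hrec : ∀ (f : V ≃ₗ[K] V) (u : V) (m j : ℕ), act f (X ^ (m + 2)) ((xop f ^ j) u) =
      act f (X ^ (m + 1)) ((xop f ^ (j + 1)) u) + act f (X ^ m) ((xop f ^ j) u) := by
    intro f u m j
    have hc : ∀ (n : ℕ) (z : V), act f (X ^ n) (xop f z) = xop f (act f (X ^ n) z) := by
      intro n
      induction n with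
      | zero => intro z; rw [pow_zero, act_one, act_one]
      | succ n ih => intro z; rw [pow_succ', act_mul, act_mul, act_X, act_X, ih, xop_g]
    rw [xpow_succ, hc, pow_succ' X (m + 1), act_mul, act_X, pow_succ' X m, act_mul, act_X]
    generalize act f (X ^ m) ((xop f ^ j) u) = z
    rw [xop_apply, f.symm_apply_apply, add_assoc, double_zero K, add_zero]
  have hm : ∀ m j, B (act g (X ^ m) ((xop g ^ j) v)) v = B (act g' (X ^ m) ((xop g' ^ j) v')) v' := by
    intro m
    induction m using Nat.twoStepInduction with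
    | zero => intro j; rw [pow_zero, act_one, act_one, xpow_self hI halt, xpow_self hI' halt]
    | one => intro j; rw [pow_one, act_X, act_X]; exact hall j
    | more m ih1 ih2 =>
      intro j
      rw [hrec, hrec, map_add, map_add, LinearMap.add_apply, LinearMap.add_apply, ih1, ih2]
  obtain ⟨b, rfl⟩ := AdjoinRoot.mk_surjective r
  rw [psi_apply, psi_apply, orb_mk _ (by rw [act_nilX']; exact hv), orb_mk _ (by rw [act_nilX']; exact hv')]
  induction b using Polynomial.induction_on' with
  | add p q hp hq => rw [act_add, act_add, map_add, map_add, LinearMap.add_apply, LinearMap.add_apply, hp, hq]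
  | monomial m a =>
    rw [← C_mul_X_pow_eq_monomial, act_mul, act_mul, act_C, act_C, map_smul, map_smul, LinearMap.smul_apply,
      LinearMap.smul_apply]
    exact congrArg (a • ·) (hm m 0)

omit halt in
/-- The functional of two vectors is determined by their pairings. -/
theorem psi_pair_eq {e : ℕ} {v w v' w' : V} (hv : (nop g ^ e) v = 0) (hv' : (nop g' ^ e) v' = 0)
    (h : ∀ i, i < e → B ((nop g ^ i) v) w = B ((nop g' ^ i) v') w') (r : AdjoinRoot ((X - C (1 : K)) ^ e)) :
    psi g B (recip_nilX K e).1 v w r = psi g' B (recip_nilX K e).1 v' w' r := by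
  obtain ⟨b, rfl⟩ := AdjoinRoot.mk_surjective r
  rw [psi_apply, psi_apply, orb_mk _ (by rw [act_nilX']; exact hv), orb_mk _ (by rw [act_nilX']; exact hv')]
  have hi : ∀ i, B (act g ((X - C (1 : K)) ^ i) v) w = B (act g' ((X - C (1 : K)) ^ i) v') w' := fun i => by
    rw [act_nilX', act_nilX']
    rcases Nat.lt_or_ge i e with hi | hi
    · exact h i hi
    · rw [npow_eq_zero_of_le hi hv, npow_eq_zero_of_le hi hv', map_zero, LinearMap.zero_apply, LinearMap.zero_apply]
  suffices hb : ∀ i, B (act g (b * (X - C (1 : K)) ^ i) v) w = B (act g' (b * (X - C (1 : K)) ^ i) v') w' by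
    simpa using hb 0
  induction b using Polynomial.induction_on with
  | C a =>
    intro i
    rw [act_mul, act_mul, act_C, act_C, map_smul, map_smul, LinearMap.smul_apply, LinearMap.smul_apply, hi]
  | add p q hp hq =>
    intro i
    rw [add_mul, act_add, act_add, map_add, map_add, LinearMap.add_apply, LinearMap.add_apply, hp, hq]
  | monomial m a ih =>
    intro i
    rw [show C a * X ^ (m + 1) * (X - C (1 : K)) ^ i =
      C a * X ^ m * (X - C (1 : K)) ^ (i + 1) + C a * X ^ m * (X - C (1 : K)) ^ i by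
        rw [pow_succ, pow_succ (X - C (1 : K)) i, C_1]; ring]
    rw [act_add, act_add, map_add, map_add, LinearMap.add_apply, LinearMap.add_apply, ih, ih]

variable [Finite K]

/-- A summand is stable, non-degenerate and of the stated dimension. -/
theorem hasUKey_facts {S : Submodule K V} {k : UKey} (h : HasUKey g B c S k) :
    (∀ x ∈ S, g x ∈ S) ∧ Nd B S ∧ finrank K S = k.dim := by
  match k, h with
  | .cyc k neg, ⟨⟨hk, _⟩, v, hv, hq, hS⟩ =>
    subst hS
    have hv' : (nop g ^ (2 * k)) v = 0 := by rw [← act_nilX']; exact hv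
    have h0 : psi g B (recip_nilX K (2 * k)).1 v v
        (AdjoinRoot.mk ((X - C (1 : K)) ^ (2 * k)) ((X - C (1 : K)) ^ (2 * k - 1))) ≠ 0 := by
      rw [psi_pow_pred (recip_nilX K (2 * k)).1 hv v, act_nilX', ← qv_top hI halt hv' hk, hq _ (by omega),
        if_pos (by omega)]
      exact one_ne_zero
    obtain ⟨h1, h2, h3⟩ := orb_range_facts hI (recip_nilX K (2 * k)) hv
      (fun a => nondeg_of_socle (irreducible_X_sub_C 1) _ h0 a)
    exact ⟨h1, h2, by rw [h3, natDegree_pow, natDegree_X_sub_C, mul_one]; rfl⟩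
  | .pair e neg, ⟨⟨he, _⟩, v, w, hv, hw, hvv, hww, hvw, hS⟩ =>
    subst hS
    have hR := recip_nilX K e
    have hv' : (nop g ^ e) v = 0 := by rw [← act_nilX']; exact hv
    have hw' : (nop g ^ e) w = 0 := by rw [← act_nilX']; exact hw
    have svv := self_top_pair hI halt he hv' hvv
    have sww := self_top_pair hI halt he hw' hww
    have svw : B ((nop g ^ (e - 1)) v) w = 1 := by
      rw [← act_nilX']
      exact (hvw (e - 1) (by omega)).trans (if_pos (by omega))
    have swv : B ((nop g ^ (e - 1)) w) v = 1 := by rw [pair_symm hI hv' he, svw]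
    have hsoc : ∀ (u u' : V), act g ((X - C (1 : K)) ^ e) u = 0 → ∀ α : K,
        psi g B hR.1 u u' (AdjoinRoot.mk _ (C α * (X - C (1 : K)) ^ (e - 1))) = α * B ((nop g ^ (e - 1)) u) u' := by
      intro u u' hu α
      rw [psi_apply, orb_mk _ hu, act_mul, act_C, map_smul, LinearMap.smul_apply, act_nilX', smul_eq_mul]
    have key : ∀ (n : ℕ) (a b : AdjoinRoot ((X - C (1 : K)) ^ e)),
        AdjoinRoot.mk _ (X - C (1 : K)) ^ n * a = 0 → AdjoinRoot.mk _ (X - C (1 : K)) ^ n * b = 0 →
        (∀ r, psi g B hR.1 v v (r * a) + psi g B hR.1 w v (r * b) = 0 ∧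
          psi g B hR.1 v w (r * a) + psi g B hR.1 w w (r * b) = 0) → a = 0 ∧ b = 0 := by
      intro n
      induction n with
      | zero => intro a b ha hb _; exact ⟨by simpa using ha, by simpa using hb⟩
      | succ n ih =>
        intro a b ha hb hr
        obtain ⟨ha1, hb1⟩ := ih (AdjoinRoot.mk _ (X - C (1 : K)) * a) (AdjoinRoot.mk _ (X - C (1 : K)) * b)
          (by rw [← mul_assoc, ← pow_succ]; exact ha) (by rw [← mul_assoc, ← pow_succ]; exact hb)
          (fun r => by rw [← mul_assoc, ← mul_assoc]; exact hr _)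
        obtain ⟨α, rfl⟩ := eq_socle he a ha1
        obtain ⟨β, rfl⟩ := eq_socle he b hb1
        obtain ⟨h1, h2⟩ := hr 1
        rw [one_mul, one_mul, hsoc _ _ hv, hsoc _ _ hw, svv, swv, mul_zero, zero_add, mul_one] at h1
        rw [one_mul, one_mul, hsoc _ _ hv, hsoc _ _ hw, svw, sww, mul_zero, add_zero, mul_one] at h2
        rw [h1, h2, C_0, zero_mul, map_zero]
        exact ⟨rfl, rfl⟩
    set φv := orb g hR.1 v
    set φw := orb g hR.1 w
    have key' : ∀ a b, (∀ y ∈ LinearMap.range φv ⊔ LinearMap.range φw, B (φv a + φw b) y = 0) → a = 0 ∧ b = 0 := by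
      intro a b hy
      refine key e a b (by rw [← map_pow, AdjoinRoot.mk_self, zero_mul])
        (by rw [← map_pow, AdjoinRoot.mk_self, zero_mul]) fun r => ⟨?_, ?_⟩
      · have h1 := hy (φv (tau hR r)) (Submodule.mem_sup_left ⟨_, rfl⟩)
        rw [map_add, LinearMap.add_apply, form_orb hI hR hv hv, form_orb hI hR hw hv, tau_tau, mul_comm a, mul_comm b] at h1
        exact h1
      · have h1 := hy (φw (tau hR r)) (Submodule.mem_sup_right ⟨_, rfl⟩)
        rw [map_add, LinearMap.add_apply, form_orb hI hR hv hw, form_orb hI hR hw hw, tau_tau, mul_comm a, mul_comm b] at h1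
        exact h1
    refine ⟨?_, ?_, ?_⟩
    · intro x hx
      obtain ⟨x1, h1, x2, h2, rfl⟩ := Submodule.mem_sup.mp hx
      rw [map_add]
      exact Submodule.add_mem_sup (orb_stable hR.1 hv x1 h1) (orb_stable hR.1 hw x2 h2)
    · intro x hx hy
      obtain ⟨_, ⟨a, rfl⟩, _, ⟨b, rfl⟩, rfl⟩ := Submodule.mem_sup.mp hx
      obtain ⟨rfl, rfl⟩ := key' a b hy
      exact (congrArg₂ (· + ·) (map_zero φv) (map_zero φw)).trans (zero_add 0)
    · have hinj : Function.Injective (φv.coprod φw) := (injective_iff_map_eq_zero _).mpr fun ⟨a, b⟩ hab => by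
        rw [LinearMap.coprod_apply] at hab
        obtain ⟨rfl, rfl⟩ := key' a b fun y _ => by rw [hab, map_zero, LinearMap.zero_apply]
        rfl
      have := hR.1.finite_adjoinRoot
      show finrank K ↥(LinearMap.range φv ⊔ LinearMap.range φw) = 2 * e
      rw [← LinearMap.range_coprod, LinearMap.finrank_range_of_inj hinj, Module.finrank_prod,
        finrank_adjoinRoot hR.1, natDegree_pow, natDegree_X_sub_C, mul_one, two_mul]

/-- Summands of one type are isometric. -/
theorem hasUKey_iso (hI' : Isom B g' (1 : K)) {S S' : Submodule K V} {k : UKey}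
    (h : HasUKey g B c S k) (h' : HasUKey g' B c S' k) : GIso g g' B S S' := by
  match k, h, h' with
  | .cyc k neg, ⟨hval, v, hv, hq, hS⟩, ⟨_, v', hv', hq', hS'⟩ =>
    subst hS hS'
    refine giso_single hI hI' (recip_nilX K (2 * k)) hv hv' (psi_self_eq hI halt hI' ?_ ?_ fun j hj => ?_)
    · rw [← act_nilX']; exact hv
    · rw [← act_nilX']; exact hv'
    · rw [hq j (by omega), hq' j (by omega)]
  | .pair e neg, ⟨hval, v, w, hv, hw, hvv, hww, hvw, hS⟩, ⟨_, v', w', hv', hw', hvv', hww', hvw', hS'⟩ =>
    subst hS hS'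
    have a1 : (nop g ^ e) v = 0 := by rw [← act_nilX']; exact hv
    have a2 : (nop g ^ e) w = 0 := by rw [← act_nilX']; exact hw
    have a3 : (nop g' ^ e) v' = 0 := by rw [← act_nilX']; exact hv'
    have a4 : (nop g' ^ e) w' = 0 := by rw [← act_nilX']; exact hw'
    refine giso_pair hI hI' (recip_nilX K e) hv hw hv' hw'
      (psi_self_eq hI halt hI' a1 a3 fun j hj => ?_) (psi_self_eq hI halt hI' a2 a4 fun j hj => ?_)
      (psi_pair_eq hI a1 a3 fun i hi => ?_)
    · rw [hvv j (by omega), hvv' j (by omega)]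
    · rw [hww j (by omega), hww' j (by omega)]
    · rw [← act_nilX', ← act_nilX']
      exact (hvw i hi).trans (hvw' i hi).symm

/-- The types of a decomposition are valid and account for the dimension. -/
theorem UDecomp.facts {l : List UKey} {W : Submodule K V} (h : UDecomp g B c W l) :
    (∀ k ∈ l, k.Valid) ∧ finrank K W = (l.map UKey.dim).sum := by
  induction h with
  | nil => exact ⟨fun k hk => by simp at hk, by simp⟩
  | @cons S W k l h1 h2 ho ih =>
    have hval : k.Valid := by
      cases k with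
      | cyc a b => exact h1.1
      | pair a b => exact h1.1
    refine ⟨fun x hx => ?_, ?_⟩
    · rcases List.mem_cons.mp hx with rfl | hx
      · exact hval
      · exact ih.1 x hx
    · obtain ⟨_, hnd, hfin⟩ := hasUKey_facts hI halt h1
      have hdis : S ⊓ W = ⊥ := by
        rw [eq_bot_iff]
        rintro x ⟨hxS, hxW⟩
        rw [Submodule.mem_bot]
        exact hnd x hxS fun y hy => hI.symm_zero (ho y hy x hxW)
      have := Submodule.finrank_sup_add_finrank_inf_eq S W
      rw [hdis, finrank_bot, add_zero, hfin, ih.2] at this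
      rw [this, List.map_cons, List.sum_cons]

omit [Finite K] halt in
theorem UDecomp.perm {l l' : List UKey} (hp : l.Perm l') :
    ∀ {W : Submodule K V}, UDecomp g B c W l → UDecomp g B c W l' := by
  induction hp with
  | nil => exact fun h => h
  | cons k _ ih =>
    intro W h
    cases h with
    | cons h1 h3 ho => exact .cons h1 (ih h3) ho
  | swap k k' l =>
    intro W h
    cases h with
    | @cons S _ _ _ h1 h3 ho =>
      cases h3 with
      | @cons S' W' _ _ h4 h5 ho' =>
        rw [sup_left_comm]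
        refine .cons h4 (.cons h1 h5 fun s hs w hw => ho s hs w (Submodule.mem_sup_right hw)) fun s hs w hw => ?_
        obtain ⟨x, hx, y, hy, rfl⟩ := Submodule.mem_sup.mp hw
        rw [map_add, hI.symm_zero (ho x hx s (Submodule.mem_sup_left hs)), ho' s hs y hy, add_zero]
  | trans _ _ ih1 ih2 => exact fun h => ih2 (ih1 h)

theorem UDecomp.iso (hI' : Isom B g' (1 : K)) {l : List UKey} :
    ∀ {W W' : Submodule K V}, UDecomp g B c W l → UDecomp g' B c W' l → GIso g g' B W W' := by
  induction l with
  | nil =>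
    intro W W' h h'
    cases h; cases h'
    exact GIso.bot
  | cons k l ih =>
    intro W W' h h'
    cases h with
    | cons h1 h3 ho =>
      cases h' with
      | cons h1' h3' ho' => exact GIso.glue hI (hasUKey_iso hI halt hI' h1 h1') (ih h3 h3') ho ho'

/-- Spaces of one type are isometric. -/
theorem UHas.giso (hI' : Isom B g' (1 : K)) {W W' : Submodule K V} {m : Multiset UKey}
    (h : UHas g B c W m) (h' : UHas g' B c W' m) : GIso g g' B W W' := by
  obtain ⟨l, hl, hd⟩ := h
  obtain ⟨l', hl', hd'⟩ := h'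
  exact UDecomp.iso hI halt hI' hd (UDecomp.perm hI' (Multiset.coe_eq_coe.mp (hl'.trans hl.symm)) hd')

end CfsgLib.Classical.SpEven
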