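import Cfsg.Agent.Lib.Classical.SpEven.Basic
import Cfsg.Agent.Lib.Classical.SpClassBound.Exists

/-!
Canonical generators for one summand of a unipotent isometry in characteristic two.
-/

set_option autoImplicit false
set_option linter.style.haveILetI false
set_option linter.unusedSectionVars false

namespace CfsgLib.Classical.SpEven

open Polynomial Module CfsgLib.Classical.SpClassBound

variable {K : Type*} [Field K] {V : Type*} [AddCommGroup V] [Module K V] [FiniteDimensional K V]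
  {g : V ≃ₗ[K] V} {B : LinearMap.BilinForm K V}

section stable

variable {U : Submodule K V} (hg : ∀ x ∈ U, g x ∈ U)
include hg

theorem nop_mem {x : V} (hx : x ∈ U) : nop g x ∈ U := U.sub_mem (hg x hx) hx

theorem npow_mem : ∀ (m : ℕ) {x : V}, x ∈ U → (nop g ^ m) x ∈ U
  | 0, x, hx => hx
  | m + 1, x, hx => by rw [npow_succ]; exact nop_mem hg (npow_mem m hx)

theorem xpow_mem : ∀ (m : ℕ) {x : V}, x ∈ U → (xop g ^ m) x ∈ U
  | 0, x, hx => hx
  | m + 1, x, hx => by
    rw [xpow_succ, xop_apply]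
    exact U.add_mem (hg _ (xpow_mem m hx)) (stable_symm hg _ (xpow_mem m hx))

end stable

theorem npow_comm_xop (e i : ℕ) (u : V) : (nop g ^ e) (nop g ((xop g ^ i) u)) = nop g ((xop g ^ i) ((nop g ^ e) u)) := by
  rw [← npow_succ', npow_succ]
  congr 1
  induction e with
  | zero => rfl
  | succ e ih => rw [npow_succ, ih, ← xpow_nop, ← npow_succ]

variable [CharP K 2] [Finite K]

theorem exists_sqrt_char_two (a : K) : ∃ t : K, t * t = a := by
  obtain ⟨t, ht⟩ := FiniteField.isSquare_of_char_two (F := K) (ringChar.eq K 2) a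
  exact ⟨t, ht.symm⟩

/-- Two classes modulo the image of `t ↦ t ^ 2 + t`. -/
theorem artin_schreier {c : K} (hc : ∀ t : K, t ^ 2 + t ≠ c) (a : K) :
    ∃ t : K, t ^ 2 + t = a ∨ t ^ 2 + t = a + c := by
  classical
  letI := Fintype.ofFinite K
  let f : K →+ K :=
    { toFun := fun t => t ^ 2 + t
      map_zero' := by simp
      map_add' := fun s t => by rw [add_pow_char]; ring }
  have hker : Nat.card f.ker = 2 := by
    rw [Nat.card_eq_two_iff]
    refine ⟨⟨0, f.ker.zero_mem⟩, ⟨1, show (1 : K) ^ 2 + 1 = 0 by rw [one_pow]; exact CharTwo.add_self_eq_zero 1⟩,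
      fun h => zero_ne_one (congrArg Subtype.val h), ?_⟩
    ext ⟨t, ht⟩
    simp only [Set.mem_insert_iff, Set.mem_singleton_iff, Set.mem_univ, iff_true]
    have h : t * (t + 1) = 0 := by
      have ht' : t ^ 2 + t = 0 := ht
      linear_combination ht'
    rcases mul_eq_zero.mp h with h1 | h1
    · exact Or.inl (Subtype.ext h1)
    · exact Or.inr (Subtype.ext ((eq_neg_of_add_eq_zero_left h1).trans (CharTwo.neg_eq 1)))
  have hidx : f.range.index = 2 := by
    have h1 := f.ker.card_mul_index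
    rw [AddSubgroup.index_ker, hker] at h1
    have h2 := f.range.card_mul_index
    rw [← h1, mul_comm 2] at h2
    exact Nat.eq_of_mul_eq_mul_left Nat.card_pos h2
  by_cases ha : a ∈ f.range
  · obtain ⟨t, ht⟩ := ha
    exact ⟨t, Or.inl ht⟩
  · obtain ⟨t, ht⟩ : a + c ∈ f.range := (AddSubgroup.add_mem_iff_of_index_two hidx).mpr
      ⟨fun h => absurd h ha, fun h => by obtain ⟨t, ht⟩ := h; exact absurd ht (hc t)⟩
    exact ⟨t, Or.inr ht⟩

variable (hI : Isom B g (1 : K)) (halt : ∀ u, B u u = 0) {U : Submodule K V} (hg : ∀ x ∈ U, g x ∈ U)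
include hI halt hg

/-- The self-pairing at the top vanishes when the top invariants do. -/
theorem self_top {e : ℕ} {v : V} (hv : (nop g ^ e) v = 0) (he : 1 ≤ e)
    (ht : ∀ j, e < 2 * j + 3 → qv g B v v j = 0) : B ((nop g ^ (e - 1)) v) v = 0 := by
  rcases Nat.even_or_odd' e with ⟨k, rfl | rfl⟩
  · rw [← qv_top hI halt hv (by omega)]
    exact ht _ (by omega)
  · rw [show 2 * k + 1 - 1 = 2 * k by omega, ← xpow_eq_npow hv le_rfl]
    exact xpow_self hI halt _ _

/-- Clear the invariants of the first of two paired vectors below the sign. -/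
theorem pair_clear {e : ℕ} {v w : V} (hvU : v ∈ U) (hwU : w ∈ U) (hv : (nop g ^ e) v = 0)
    (hw : (nop g ^ e) w = 0) (hP : B ((nop g ^ (e - 1)) v) w = 1)
    (hvt : ∀ j, e < 2 * j + 3 → qv g B v v j = 0) (hwt : ∀ j, e < 2 * j + 3 → qv g B w w j = 0) :
    ∃ v' ∈ U, (nop g ^ e) v' = 0 ∧ B ((nop g ^ (e - 1)) v') w = 1 ∧
      ∀ j, qv g B v' v' j = if 2 * j + 3 = e then qv g B v v j else 0 := by
  suffices h : ∀ d, ∃ v' ∈ U, (nop g ^ e) v' = 0 ∧ B ((nop g ^ (e - 1)) v') w = 1 ∧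
      ∀ j, (e ≤ 2 * j + 3 → qv g B v' v' j = qv g B v v j) ∧
        (2 * j + 3 < e → e ≤ j + d → qv g B v' v' j = 0) by
    obtain ⟨v', h1, h2, h3, h4⟩ := h e
    refine ⟨v', h1, h2, h3, fun j => ?_⟩
    rcases Nat.lt_trichotomy (2 * j + 3) e with hj | hj | hj
    · rw [if_neg hj.ne]; exact (h4 j).2 hj (by omega)
    · rw [if_pos hj]; exact (h4 j).1 hj.ge
    · rw [if_neg hj.ne', (h4 j).1 hj.le]; exact hvt j hj
  intro d
  induction d with
  | zero => exact ⟨v, hvU, hv, hP, fun j => ⟨fun _ => rfl, fun h1 h2 => by omega⟩⟩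
  | succ d ih =>
    obtain ⟨v', h1, h2, h3, h4⟩ := ih
    set j₀ := e - (d + 1) with hj₀
    by_cases hlow : 2 * j₀ + 3 < e
    · set m := e - (2 * j₀ + 3) with hm
      set β := qv g B v' v' j₀ with hβ
      have hwk : (nop g ^ e) ((nop g ^ m) w) = 0 := by
        rw [← npow_add, add_comm]; rw [npow_add, hw, map_zero]
      have hP' : B ((nop g ^ (e - 1)) (v' + β • (nop g ^ m) w)) w = 1 := by
        rw [map_add, map_smul, map_add B, LinearMap.add_apply, h3, map_smul B, LinearMap.smul_apply, ← npow_add,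
          npow_eq_zero_of_le (by omega) hw, map_zero, LinearMap.zero_apply, smul_zero, add_zero]
      have hq : ∀ j, qv g B (v' + β • (nop g ^ m) w) (v' + β • (nop g ^ m) w) j = qv g B v' v' j +
          β * β * qv g B w w (j + m) + β * B ((xop g ^ (j + 1)) v') ((nop g ^ m) w) := fun j => by
        rw [qv_add hI, qv_smul hI, qv_npow hI, map_smul, smul_eq_mul]
      refine ⟨_, U.add_mem h1 (U.smul_mem β (npow_mem hg m hwU)),
        by rw [map_add, map_smul, h2, hwk, smul_zero, add_zero], hP', fun j => ⟨fun hj => ?_, fun hj hd => ?_⟩⟩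
      · rw [hq, cross_zero hI h2 (by omega), hwt _ (by omega), (h4 j).1 hj]
        ring
      · rw [hq, hwt _ (by omega)]
        by_cases hnew : j = j₀
        · subst hnew
          rw [cross_eq hI h2 (by omega), h3, mul_zero, add_zero, mul_one, ← hβ]
          exact CharTwo.add_self_eq_zero β
        · rw [cross_zero hI h2 (by omega), (h4 j).2 hj (by omega)]
          ring
    · exact ⟨v', h1, h2, h3, fun j => ⟨(h4 j).1, fun hj hd => (h4 j).2 hj (by omega)⟩⟩

/-- Make the pairing exact. -/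
theorem pair_fix {e m : ℕ} {v w : V} (hwU : w ∈ U) (hv : (nop g ^ e) v = 0)
    (hw : (nop g ^ e) w = 0) (hP : B ((nop g ^ (e - 1)) v) w = 1)
    (hwt : ∀ j, e < 2 * j + 3 → qv g B w w j = 0)
    (hm : ∀ i, i + 1 < e → e ≤ i + m + 1 → B ((nop g ^ i) v) w = 0) :
    ∃ w' ∈ U, (nop g ^ e) w' = 0 ∧ (∀ i, i < e → B ((nop g ^ i) v) w' = if i + 1 = e then 1 else 0) ∧
      ∀ j, e ≤ m + 2 * j + 3 → qv g B w' w' j = qv g B w w j := by
  suffices h : ∀ d, ∃ w' ∈ U, (nop g ^ e) w' = 0 ∧ B ((nop g ^ (e - 1)) v) w' = 1 ∧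
      (∀ i, i + 1 < e → e ≤ i + m + 1 ∨ e ≤ i + d → B ((nop g ^ i) v) w' = 0) ∧
      ∀ j, e ≤ m + 2 * j + 3 → qv g B w' w' j = qv g B w w j by
    obtain ⟨w', h1, h2, h3, h4, h5⟩ := h e
    refine ⟨w', h1, h2, fun i hi => ?_, h5⟩
    split_ifs with h'
    · rw [show i = e - 1 by omega]; exact h3
    · exact h4 i (by omega) (Or.inr (by omega))
  intro d
  induction d with
  | zero => exact ⟨w, hwU, hw, hP, fun i hi h => hm i hi (by omega), fun j _ => rfl⟩
  | succ d ih =>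
    obtain ⟨w', h1, h2, h3, h4, h5⟩ := ih
    set i₀ := e - (d + 1) with hi₀
    by_cases hnew : i₀ + 1 < e ∧ i₀ + m + 1 < e
    · set l := e - 1 - i₀ with hl
      set γ := B ((nop g ^ i₀) v) w' with hγ
      have hwk : (nop g ^ e) ((nop g ^ l) w') = 0 := by
        rw [← npow_add, add_comm, npow_add, h2, map_zero]
      refine ⟨w' + γ • (nop g ^ l) w', U.add_mem h1 (U.smul_mem γ (npow_mem hg l h1)),
        by rw [map_add, map_smul, h2, hwk, smul_zero, add_zero], ?_, fun i hi h => ?_, fun j hj => ?_⟩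
      · rw [map_add, map_smul, h3, pair_zero hI hv (by omega), smul_zero, add_zero]
      · rw [map_add, map_smul, smul_eq_mul]
        by_cases hii : i = i₀
        · subst hii
          rw [pair_top hI hv (by omega), h3, mul_one, ← hγ]
          exact CharTwo.add_self_eq_zero γ
        · rw [h4 i hi (by omega), pair_zero hI hv (by omega), mul_zero, add_zero]
      · rw [qv_add hI, qv_smul hI, qv_npow hI, map_smul, cross_zero hI h2 (by omega), h5 (j + l) (by omega),
          hwt (j + l) (by omega), smul_zero, mul_zero, add_zero, add_zero]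
        exact h5 j hj
    · exact ⟨w', h1, h2, h3, fun i hi h => h4 i hi (by omega), h5⟩

/-- Clear the invariants of the second vector below the sign, keeping the pairing exact. -/
theorem pair_clear_snd {e : ℕ} {v w : V} (hvU : v ∈ U) (hwU : w ∈ U) (hv : (nop g ^ e) v = 0)
    (hw : (nop g ^ e) w = 0) (he : 1 ≤ e)
    (hvw : ∀ i, i < e → B ((nop g ^ i) v) w = if i + 1 = e then 1 else 0)
    (hvt : ∀ j, e < 2 * j + 3 → qv g B v v j = 0) (hwt : ∀ j, e < 2 * j + 3 → qv g B w w j = 0) :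
    ∃ w' ∈ U, (nop g ^ e) w' = 0 ∧ (∀ i, i < e → B ((nop g ^ i) v) w' = if i + 1 = e then 1 else 0) ∧
      ∀ j, qv g B w' w' j = if 2 * j + 3 = e then qv g B w w j else 0 := by
  suffices h : ∀ d, ∃ w' ∈ U, (nop g ^ e) w' = 0 ∧
      (∀ i, i < e → B ((nop g ^ i) v) w' = if i + 1 = e then 1 else 0) ∧
      ∀ j, (e ≤ 2 * j + 3 → qv g B w' w' j = qv g B w w j) ∧
        (2 * j + 3 < e → e ≤ j + d → qv g B w' w' j = 0) by
    obtain ⟨w', h1, h2, h3, h4⟩ := h e
    refine ⟨w', h1, h2, h3, fun j => ?_⟩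
    rcases Nat.lt_trichotomy (2 * j + 3) e with hj | hj | hj
    · rw [if_neg hj.ne]; exact (h4 j).2 hj (by omega)
    · rw [if_pos hj]; exact (h4 j).1 hj.ge
    · rw [if_neg hj.ne', (h4 j).1 hj.le]; exact hwt j hj
  intro d
  induction d with
  | zero => exact ⟨w, hwU, hw, hvw, fun j => ⟨fun _ => rfl, fun h1 h2 => by omega⟩⟩
  | succ d ih =>
    obtain ⟨w', h1, h2, h3, h4⟩ := ih
    set j₀ := e - (d + 1) with hj₀
    by_cases hlow : 2 * j₀ + 3 < e
    · set m := e - (2 * j₀ + 3) with hm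
      set β := qv g B w' w' j₀ with hβ
      have hP : B ((nop g ^ (e - 1)) v) w' = 1 := by rw [h3 _ (by omega), if_pos (by omega)]
      have hwv : B ((nop g ^ (e - 1)) w') v = 1 := by rw [pair_symm hI hv he, hP]
      have hvv : B ((nop g ^ (e - 1)) v) v = 0 := self_top hI halt hg hv he hvt
      set w₁ := w' + β • (nop g ^ m) v with hw₁
      have hk : (nop g ^ e) w₁ = 0 := by
        rw [hw₁, map_add, map_smul, h2, ← npow_add, add_comm e m, npow_add, hv, map_zero, smul_zero, add_zero]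
      have hq : ∀ j, qv g B w₁ w₁ j = qv g B w' w' j +
          β * β * qv g B v v (j + m) + β * B ((xop g ^ (j + 1)) w') ((nop g ^ m) v) := fun j => by
        rw [qv_add hI, qv_smul hI, qv_npow hI, map_smul, smul_eq_mul]
      have hP₁ : B ((nop g ^ (e - 1)) v) w₁ = 1 := by
        rw [hw₁, map_add, map_smul, hP, pair_zero hI hv (by omega), smul_zero, add_zero]
      have hz : ∀ i, i + 1 < e → e ≤ i + m + 1 → B ((nop g ^ i) v) w₁ = 0 := fun i hi him => by
        rw [hw₁, map_add, map_smul, h3 i (by omega), if_neg (by omega), zero_add, smul_eq_mul]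
        rcases Nat.lt_or_eq_of_le him with h' | h'
        · rw [pair_zero hI hv (by omega), mul_zero]
        · rw [pair_top hI hv h'.symm, hvv, mul_zero]
      have hwt₁ : ∀ j, e < 2 * j + 3 → qv g B w₁ w₁ j = 0 := fun j hj => by
        rw [hq, cross_zero hI h2 (by omega), hvt _ (by omega), (h4 j).1 hj.le, hwt j hj]
        ring
      obtain ⟨w₂, k1, k2, k3, k4⟩ := pair_fix hI halt hg (U.add_mem h1 (U.smul_mem β (npow_mem hg m hvU)))
        hv hk hP₁ hwt₁ hz
      refine ⟨w₂, k1, k2, k3, fun j => ⟨fun hj => ?_, fun hj hd => ?_⟩⟩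
      · rw [k4 j (by omega), hq, cross_zero hI h2 (by omega), hvt _ (by omega), (h4 j).1 hj]
        ring
      · rw [k4 j (by omega), hq, hvt _ (by omega)]
        by_cases hnew : j = j₀
        · subst hnew
          rw [cross_eq hI h2 (by omega), hwv, mul_zero, add_zero, mul_one, ← hβ]
          exact CharTwo.add_self_eq_zero β
        · rw [cross_zero hI h2 (by omega), (h4 j).2 hj (by omega)]
          ring
    · exact ⟨w', h1, h2, h3, fun j => ⟨(h4 j).1, fun hj hd => (h4 j).2 hj (by omega)⟩⟩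

/-- Clear the invariants of a cyclic generator below the sign. -/
theorem cyc_clear {k : ℕ} {z : V} (hk : 1 ≤ k) (hzU : z ∈ U) (hz : (nop g ^ (2 * k)) z = 0)
    (htop : qv g B z z (k - 1) = 1) :
    ∃ z' ∈ U, (nop g ^ (2 * k)) z' = 0 ∧
      ∀ j, qv g B z' z' j = if j + 1 = k then 1 else if j + 2 = k then qv g B z z j else 0 := by
  suffices h : ∀ d, ∃ z' ∈ U, (nop g ^ (2 * k)) z' = 0 ∧
      ∀ j, (k ≤ j + 2 → qv g B z' z' j = qv g B z z j) ∧
        (j + 2 < k → k ≤ j + d → qv g B z' z' j = 0) by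
    obtain ⟨z', h1, h2, h4⟩ := h k
    refine ⟨z', h1, h2, fun j => ?_⟩
    split_ifs with ha hb
    · rw [(h4 j).1 (by omega), ← htop]; congr 1; omega
    · exact (h4 j).1 hb.ge
    · by_cases hj : j + 2 < k
      · exact (h4 j).2 hj (by omega)
      · exact qv_high hI halt h2 (by omega)
  intro d
  induction d with
  | zero => exact ⟨z, hzU, hz, fun j => ⟨fun _ => rfl, fun h1 h2 => by omega⟩⟩
  | succ d ih =>
    obtain ⟨z', h1, h2, h4⟩ := ih
    set j₀ := k - (d + 1) with hj₀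
    by_cases hlow : j₀ + 2 < k
    · set i := k - 2 - j₀ with hi
      set β := qv g B z' z' j₀ with hβ
      refine ⟨z' + β • nop g ((xop g ^ i) z'),
        U.add_mem h1 (U.smul_mem β (nop_mem hg (xpow_mem hg i h1))),
        by rw [map_add, map_smul, h2, npow_comm_xop, h2, map_zero, map_zero, smul_zero, add_zero],
        fun j => ⟨fun hj => ?_, fun hj hd => ?_⟩⟩
      · rw [qv_shift hI halt, qv_high hI halt h2 (j := j + i + 1) (by omega),
          qv_high hI halt h2 (j := j + 2 * i + 1) (by omega), (h4 j).1 hj]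
        ring
      · rw [qv_shift hI halt, qv_high hI halt h2 (j := j + 2 * i + 1) (by omega), mul_zero, add_zero]
        by_cases hnew : j = j₀
        · subst hnew
          rw [show j₀ + i + 1 = k - 1 by omega, (h4 (k - 1)).1 (by omega), htop, mul_one, ← hβ]
          exact CharTwo.add_self_eq_zero β
        · rw [qv_high hI halt h2 (j := j + i + 1) (by omega), (h4 j).2 hj (by omega)]
          ring
    · exact ⟨z', h1, h2, fun j => ⟨(h4 j).1, fun hj hd => (h4 j).2 hj (by omega)⟩⟩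

variable {c : K}

/-- The span of a canonical pair. -/
theorem hasUKey_pair {e : ℕ} {neg : Bool} {v w : V} (hval : UKey.Valid (.pair e neg)) (hvU : v ∈ U) (hwU : w ∈ U)
    (hv : (nop g ^ e) v = 0) (hw : (nop g ^ e) w = 0)
    (hvw : ∀ i, i < e → B ((nop g ^ i) v) w = if i + 1 = e then 1 else 0)
    (hqv : ∀ j, qv g B v v j = if neg = true ∧ 2 * j + 3 = e then 1 else 0)
    (hqw : ∀ j, qv g B w w j = if neg = true ∧ 2 * j + 3 = e then c else 0) :
    ∃ S ≤ U, HasUKey g B c S (.pair e neg) := by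
  have hv' : act g (nilX K ^ e) v = 0 := by rw [act_nilX, hv]
  have hw' : act g (nilX K ^ e) w = 0 := by rw [act_nilX, hw]
  exact ⟨_, sup_le (orb_range_le hg _ hvU hv') (orb_range_le hg _ hwU hw'), hval, v, w, hv', hw',
    fun j _ => hqv j, fun j _ => hqw j, fun i hi => by rw [act_nilX]; exact hvw i hi, rfl⟩

/-- A positive pair: the first vector has no sign. -/
theorem pair_pos {e : ℕ} {v w : V} (he : 1 ≤ e) (hvU : v ∈ U) (hwU : w ∈ U) (hv : (nop g ^ e) v = 0)
    (hw : (nop g ^ e) w = 0) (hP : B ((nop g ^ (e - 1)) v) w ≠ 0)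
    (hvt : ∀ j, e ≤ 2 * j + 3 → qv g B v v j = 0) (hwt : ∀ j, e < 2 * j + 3 → qv g B w w j = 0) :
    ∃ S ≤ U, HasUKey g B c S (.pair e false) := by
  set t := (B ((nop g ^ (e - 1)) v) w)⁻¹
  obtain ⟨v', h1, h2, h3, h4⟩ := pair_clear hI halt hg (v := t • v) (w := w) (U.smul_mem t hvU) hwU
    (by rw [map_smul, hv, smul_zero]) hw
    (by rw [map_smul, map_smul B, LinearMap.smul_apply, smul_eq_mul]; exact inv_mul_cancel₀ hP)
    (fun j hj => by rw [qv_smul hI, hvt j hj.le, mul_zero]) hwt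
  have hv0 : ∀ j, qv g B v' v' j = 0 := fun j => by
    rw [h4]
    split_ifs with hj
    · rw [qv_smul hI, hvt j hj.ge, mul_zero]
    · rfl
  have hvv : B ((nop g ^ (e - 1)) v') v' = 0 := self_top hI halt hg h2 he fun j _ => hv0 j
  -- remove the sign of the second vector
  set β := qv g B w w ((e - 3) / 2) with hβ
  set b := if Odd e ∧ 3 ≤ e then β else 0 with hb
  have hw₁U : w + b • v' ∈ U := U.add_mem hwU (U.smul_mem b h1)
  have hw₁ : (nop g ^ e) (w + b • v') = 0 := by rw [map_add, map_smul, hw, h2, smul_zero, add_zero]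
  have hP₁ : B ((nop g ^ (e - 1)) v') (w + b • v') = 1 := by
    rw [map_add, map_smul, h3, hvv, smul_zero, add_zero]
  have hq : ∀ j, qv g B (w + b • v') (w + b • v') j = qv g B w w j + b * B ((xop g ^ (j + 1)) w) v' := fun j => by
    rw [qv_add hI, qv_smul hI, hv0, map_smul, smul_eq_mul]
    ring
  have hwt₁ : ∀ j, e < 2 * j + 3 → qv g B (w + b • v') (w + b • v') j = 0 := fun j hj => by
    have hz : b * B ((xop g ^ (j + 1)) w) v' = 0 := by
      rw [hb]
      split_ifs with hc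
      · obtain ⟨i, hi⟩ := hc.1
        rw [xpow_eq_zero hw (by omega), map_zero, LinearMap.zero_apply, mul_zero]
      · rw [zero_mul]
    rw [hq, hz, hwt j hj, add_zero]
  obtain ⟨w₂, k1, k2, k3, k4⟩ := pair_fix hI halt hg (m := 0) hw₁U h2 hw₁ hP₁ hwt₁ fun i hi h => by omega
  obtain ⟨w₃, l1, l2, l3, l4⟩ := pair_clear_snd hI halt hg h1 k1 h2 k2 he k3 (fun j _ => hv0 j)
    fun j hj => by rw [k4 j (by omega), hwt₁ j hj]
  refine hasUKey_pair hI halt hg ⟨he, fun h => by simp at h⟩ h1 l1 h2 l2 l3 (fun j => by rw [hv0]; simp) fun j => ?_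
  rw [l4, if_neg (show ¬ ((false = true) ∧ 2 * j + 3 = e) by simp)]
  split_ifs with hj
  · rw [k4 j (by omega), hq, hb, if_pos ⟨⟨j + 1, by omega⟩, by omega⟩, hβ, show (e - 3) / 2 = j by omega]
    have hc' := cross_eq hI (j := j + 1) (m := 0) (u := w) (w := v') hw (by omega)
    rw [pow_zero, Module.End.one_apply] at hc'
    rw [hc', pair_symm hI h2 he, h3, mul_one]
    exact CharTwo.add_self_eq_zero _
  · rfl

/-- Some pair of odd length. -/
theorem pair_any (hc : ∀ t : K, t ^ 2 + t ≠ c) {i : ℕ} {v w : V} (hvU : v ∈ U) (hwU : w ∈ U)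
    (hv : (nop g ^ (2 * i + 1)) v = 0) (hw : (nop g ^ (2 * i + 1)) w = 0)
    (hP : B ((nop g ^ (2 * i)) v) w ≠ 0) :
    ∃ neg, ∃ S ≤ U, HasUKey g B c S (.pair (2 * i + 1) neg) := by
  have htop : ∀ {u : V}, (nop g ^ (2 * i + 1)) u = 0 → ∀ j, 2 * i + 1 < 2 * j + 3 → qv g B u u j = 0 :=
    fun hu j hj => qv_high hI halt hu (by omega)
  rcases Nat.eq_zero_or_pos i with hi | hi
  · subst hi
    exact ⟨false, pair_pos hI halt hg le_rfl hvU hwU hv hw hP
      (fun j _ => qv_high hI halt hv (by omega)) (htop hw)⟩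
  obtain ⟨j₀, rfl⟩ : ∃ j₀, i = j₀ + 1 := ⟨i - 1, by omega⟩
  by_cases ha : qv g B v v j₀ = 0
  · refine ⟨false, pair_pos hI halt hg (by omega) hvU hwU hv hw hP (fun j hj => ?_) (htop hw)⟩
    by_cases hj' : j = j₀
    · rw [hj', ha]
    · exact qv_high hI halt hv (by omega)
  obtain ⟨s, hs⟩ := exists_sqrt_char_two (qv g B v v j₀)⁻¹
  have hs0 : s ≠ 0 := fun h => ha (by rw [h, mul_zero] at hs; exact inv_eq_zero.mp hs.symm)
  obtain ⟨v₀, w₀, hv₀U, hw₀U, hv₀, hw₀, ha₀, hP₀⟩ : ∃ v₀ w₀ : V, v₀ ∈ U ∧ w₀ ∈ U ∧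
      (nop g ^ (2 * (j₀ + 1) + 1)) v₀ = 0 ∧ (nop g ^ (2 * (j₀ + 1) + 1)) w₀ = 0 ∧ qv g B v₀ v₀ j₀ = 1 ∧
      B ((nop g ^ (2 * (j₀ + 1) + 1 - 1)) v₀) w₀ = 1 := by
    refine ⟨s • v, (B ((nop g ^ (2 * (j₀ + 1))) v) w * s)⁻¹ • w, U.smul_mem _ hvU, U.smul_mem _ hwU,
      by rw [map_smul, hv, smul_zero], by rw [map_smul, hw, smul_zero],
      by rw [qv_smul hI, hs, inv_mul_cancel₀ ha], ?_⟩
    simp only [Nat.add_sub_cancel, map_smul, LinearMap.smul_apply, smul_eq_mul]
    field_simp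
  have hq : ∀ β : K, qv g B (w₀ + β • v₀) (w₀ + β • v₀) j₀ = qv g B w₀ w₀ j₀ + β * β + β := fun β => by
    have hc' := cross_eq hI (j := j₀ + 1) (m := 0) (u := w₀) (w := v₀) hw₀ (by omega)
    rw [pow_zero, Module.End.one_apply] at hc'
    rw [qv_add hI, qv_smul hI, ha₀, map_smul, smul_eq_mul, hc', pair_symm hI hv₀ (by omega), hP₀, mul_one, mul_one]
  obtain ⟨β, hβ⟩ := artin_schreier hc (qv g B w₀ w₀ j₀)
  have hw₁U : w₀ + β • v₀ ∈ U := U.add_mem hw₀U (U.smul_mem _ hv₀U)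
  have hw₁ : (nop g ^ (2 * (j₀ + 1) + 1)) (w₀ + β • v₀) = 0 := by
    rw [map_add, map_smul, hw₀, hv₀, smul_zero, add_zero]
  have hvv : B ((nop g ^ (2 * (j₀ + 1) + 1 - 1)) v₀) v₀ = 0 := self_top hI halt hg hv₀ (by omega) (htop hv₀)
  have hP₁ : B ((nop g ^ (2 * (j₀ + 1) + 1 - 1)) v₀) (w₀ + β • v₀) = 1 := by
    rw [map_add, map_smul, hP₀, hvv, smul_zero, add_zero]
  rcases hβ with hβ | hβ
  · -- the second vector has no sign
    refine ⟨false, pair_pos hI halt hg (by omega) hw₁U hv₀U hw₁ hv₀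
      (by rw [pair_symm hI hv₀ (by omega), hP₁]; exact one_ne_zero) (fun j hj => ?_) (htop hv₀)⟩
    by_cases hj' : j = j₀
    · rw [hj', hq, add_assoc, ← pow_two, hβ]
      exact CharTwo.add_self_eq_zero _
    · exact qv_high hI halt hw₁ (by omega)
  · obtain ⟨v₁, h1, h2, h3, h4⟩ := pair_clear hI halt hg hv₀U hw₁U hv₀ hw₁ hP₁ (htop hv₀) (htop hw₁)
    obtain ⟨w₂, k1, k2, k3, k4⟩ := pair_fix hI halt hg (m := 0) hw₁U h2 hw₁ h3 (htop hw₁) fun i hi h => by omega
    obtain ⟨w₃, l1, l2, l3, l4⟩ := pair_clear_snd hI halt hg h1 k1 h2 k2 (by omega) k3 (htop h2) (htop k2)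
    refine ⟨true, hasUKey_pair hI halt hg ⟨by omega, fun _ => ⟨⟨j₀ + 1, by omega⟩, by omega⟩⟩ h1 l1 h2 l2 l3
      (fun j => ?_) fun j => ?_⟩
    · rw [h4]
      by_cases hj : j = j₀
      · subst hj; rw [if_pos (by omega), if_pos ⟨rfl, by omega⟩, ha₀]
      · rw [if_neg (by omega), if_neg (by omega)]
    · rw [l4]
      by_cases hj : j = j₀
      · subst hj
        rw [if_pos (by omega), if_pos ⟨rfl, by omega⟩, k4 j (by omega), hq, add_assoc, ← pow_two, hβ,
          ← add_assoc, CharTwo.add_self_eq_zero, zero_add]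
      · rw [if_neg (by omega), if_neg (by omega)]

/-- The span of a canonical cyclic generator. -/
theorem hasUKey_cyc {k : ℕ} {neg : Bool} {z : V} (hval : UKey.Valid (.cyc k neg)) (hzU : z ∈ U)
    (hz : (nop g ^ (2 * k)) z = 0)
    (hq : ∀ j, qv g B z z j = if j + 1 = k then 1 else if j + 2 = k ∧ neg = true then c else 0) :
    ∃ S ≤ U, HasUKey g B c S (.cyc k neg) := by
  have hz' : act g (nilX K ^ (2 * k)) z = 0 := by rw [act_nilX, hz]
  exact ⟨_, orb_range_le hg _ hzU hz', hval, z, hz', fun j _ => hq j, rfl⟩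

/-- A positive cyclic summand. -/
theorem cyc_pos {k : ℕ} {z : V} (hk : 1 ≤ k) (hzU : z ∈ U) (hz : (nop g ^ (2 * k)) z = 0)
    (htop : qv g B z z (k - 1) = 1) (hsgn : ∀ j, j + 2 = k → ∃ t : K, t ^ 2 + t = qv g B z z j) :
    ∃ S ≤ U, HasUKey g B c S (.cyc k false) := by
  by_cases hk1 : k = 1
  · obtain ⟨z', h1, h2, h3⟩ := cyc_clear hI halt hg hk hzU hz htop
    refine hasUKey_cyc hI halt hg ⟨hk, fun h => by simp at h⟩ h1 h2 fun j => ?_
    rw [h3, if_neg (show ¬ (j + 2 = k) by omega), if_neg (show ¬ (j + 2 = k ∧ false = true) by simp)]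
  obtain ⟨t, ht⟩ := hsgn (k - 2) (by omega)
  set z₁ := z + t • nop g z with hz₁
  have hz₁k : (nop g ^ (2 * k)) z₁ = 0 := by
    rw [hz₁, map_add, map_smul, hz, ← npow_succ', npow_eq_zero_of_le (Nat.le_succ _) hz, smul_zero, add_zero]
  have hq₁ : ∀ j, qv g B z₁ z₁ j = qv g B z z j + t * qv g B z z (j + 1) + t * t * qv g B z z (j + 1) := fun j => by
    exact qv_shift hI halt t 0 _ j
  have htop₁ : qv g B z₁ z₁ (k - 1) = 1 := by
    rw [hq₁, qv_high hI halt hz (j := k - 1 + 1) (by omega), htop]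
    ring
  obtain ⟨z', h1, h2, h3⟩ := cyc_clear hI halt hg hk (U.add_mem hzU (U.smul_mem t (nop_mem hg hzU))) hz₁k htop₁
  refine hasUKey_cyc hI halt hg ⟨hk, fun h => by simp at h⟩ h1 h2 fun j => ?_
  rw [h3, if_neg (show ¬ (j + 2 = k ∧ false = true) by simp)]
  split_ifs with ha hb
  · rfl
  · rw [hq₁, show j + 1 = k - 1 by omega, htop, show j = k - 2 by omega, ← ht]
    linear_combination (CharTwo.add_self_eq_zero (t ^ 2)) + CharTwo.add_self_eq_zero t
  · rfl

/-- Some cyclic summand. -/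
theorem cyc_any (hc : ∀ t : K, t ^ 2 + t ≠ c) {k : ℕ} {z : V} (hk : 1 ≤ k) (hzU : z ∈ U)
    (hz : (nop g ^ (2 * k)) z = 0) (hne : B ((nop g ^ (2 * k - 1)) z) z ≠ 0) :
    ∃ neg, ∃ S ≤ U, HasUKey g B c S (.cyc k neg) := by
  obtain ⟨s, hs⟩ := exists_sqrt_char_two (qv g B z z (k - 1))⁻¹
  have h0 : qv g B z z (k - 1) ≠ 0 := by rwa [qv_top hI halt hz hk]
  have hsU : s • z ∈ U := U.smul_mem s hzU
  have hsk : (nop g ^ (2 * k)) (s • z) = 0 := by rw [map_smul, hz, smul_zero]
  have htop : qv g B (s • z) (s • z) (k - 1) = 1 := by rw [qv_smul hI, hs, inv_mul_cancel₀ h0]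
  by_cases hk1 : k = 1
  · exact ⟨false, cyc_pos hI halt hg hk hsU hsk htop fun j hj => by omega⟩
  obtain ⟨t, ht⟩ := artin_schreier hc (qv g B (s • z) (s • z) (k - 2))
  rcases ht with ht | ht
  · exact ⟨false, cyc_pos hI halt hg hk hsU hsk htop fun j hj => ⟨t, by rw [show j = k - 2 by omega]; exact ht⟩⟩
  set z₁ := s • z + t • nop g (s • z) with hz₁
  have hz₁k : (nop g ^ (2 * k)) z₁ = 0 := by
    rw [hz₁, map_add, map_smul (nop g ^ (2 * k)) t, hsk, ← npow_succ', npow_eq_zero_of_le (Nat.le_succ _) hsk,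
      smul_zero, add_zero]
  have hq₁ : ∀ j, qv g B z₁ z₁ j = qv g B (s • z) (s • z) j + t * qv g B (s • z) (s • z) (j + 1) +
      t * t * qv g B (s • z) (s • z) (j + 1) := fun j => by
    exact qv_shift hI halt t 0 _ j
  have htop₁ : qv g B z₁ z₁ (k - 1) = 1 := by
    rw [hq₁, qv_high hI halt hsk (j := k - 1 + 1) (by omega), htop]
    ring
  obtain ⟨z', h1, h2, h3⟩ := cyc_clear hI halt hg hk
    (U.add_mem hsU (U.smul_mem t (nop_mem hg hsU))) hz₁k htop₁
  refine ⟨true, hasUKey_cyc hI halt hg ⟨hk, fun _ => by omega⟩ h1 h2 fun j => ?_⟩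
  rw [h3]
  by_cases ha : j + 1 = k
  · rw [if_pos ha, if_pos ha]
  · rw [if_neg ha, if_neg ha]
    by_cases hb : j + 2 = k
    · rw [if_pos hb, if_pos ⟨hb, rfl⟩, hq₁, show j + 1 = k - 1 by omega, htop, show j = k - 2 by omega]
      linear_combination ht + CharTwo.add_self_eq_zero (qv g B (s • z) (s • z) (k - 2))
    · rw [if_neg hb, if_neg (fun h => hb h.1)]

end CfsgLib.Classical.SpEven
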